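import Cfsg.Agent.CITSolv.Local
import Cfsg.Prelude.Def_Involutions

/-!
Without offenders the normaliser of the Thompson subgroup of a Sylow 2-subgroup is strongly embedded.
-/

set_option autoImplicit false
set_option linter.style.haveILetI false
set_option linter.unusedSectionVars false

open Subgroup
open scoped Pointwise

namespace Cfsg.Agent.CITSolv

variable {G : Type*} [Group G]

/-- conjugate of a subgroup -/
def cj (g : G) (H : Subgroup G) : Subgroup G := H.map (MulAut.conj g).toMonoidHom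

theorem mem_cj {g x : G} {H : Subgroup G} : x ∈ cj g H ↔ g⁻¹ * x * g ∈ H := by
  constructor
  · rintro ⟨y, hy, rfl⟩
    have hy' : y ∈ H := hy
    simpa [mul_assoc] using hy'
  · intro h
    exact ⟨_, h, by simp [mul_assoc]⟩

theorem cj_cj (g g' : G) (H : Subgroup G) : cj g (cj g' H) = cj (g * g') H := by
  ext x
  simp only [mem_cj, mul_inv_rev, mul_assoc]

theorem cj_eq_self {g : G} {H : Subgroup G} (hg : g ∈ normalizer (H : Set G)) : cj g H = H := by
  ext x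
  rw [mem_cj, mem_normalizer_iff''.1 hg x]

theorem cj_one (H : Subgroup G) : cj 1 H = H := cj_eq_self (one_mem _)

theorem mem_normalizer_of_cj {g : G} {H : Subgroup G} (h : cj g H = H) : g ∈ normalizer (H : Set G) := by
  refine mem_normalizer_iff''.2 fun x => ?_
  rw [← mem_cj, h]

theorem cj_normalizer (g : G) (H : Subgroup G) :
    cj g (normalizer (H : Set G)) = normalizer (cj g H : Set G) := by
  ext x
  rw [mem_cj]
  constructor
  · intro h
    refine mem_normalizer_of_cj ?_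
    calc cj x (cj g H) = cj g (cj (g⁻¹ * x * g) H) := by
          rw [cj_cj, cj_cj, show g * (g⁻¹ * x * g) = x * g by group]
      _ = cj g H := by rw [cj_eq_self h]
  · intro h
    refine mem_normalizer_of_cj ?_
    calc cj (g⁻¹ * x * g) H = cj g⁻¹ (cj x (cj g H)) := by rw [cj_cj, cj_cj, mul_assoc]
      _ = H := by rw [cj_eq_self h, cj_cj, inv_mul_cancel, cj_one]

theorem cj_mono (g : G) {H K : Subgroup G} (h : H ≤ K) : cj g H ≤ cj g K := map_mono h

theorem cj_le_iff {g : G} {H K : Subgroup G} : cj g H ≤ K ↔ H ≤ cj g⁻¹ K := by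
  constructor
  · intro h
    have := cj_mono g⁻¹ h
    rwa [cj_cj, inv_mul_cancel, cj_one] at this
  · intro h
    have := cj_mono g h
    rwa [cj_cj, mul_inv_cancel, cj_one] at this

theorem card_cj (g : G) (H : Subgroup G) : Nat.card (cj g H) = Nat.card H :=
  card_map_of_injective (MulAut.conj g).injective

theorem isPGroup_cj {p : ℕ} (g : G) {H : Subgroup G} (h : IsPGroup p H) : IsPGroup p (cj g H) := h.map _

theorem Elem.cj {A : Subgroup G} (h : Elem A) (g : G) : Elem (cj g A) := by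
  intro x hx
  have := h _ (mem_cj.1 hx)
  calc x * x = g * (g⁻¹ * x * g * (g⁻¹ * x * g)) * g⁻¹ := by group
    _ = 1 := by rw [this]; group

/-- a maximal 2-subgroup of a subgroup -/
def MaxIn (X T : Subgroup G) : Prop :=
  IsPGroup 2 T ∧ T ≤ X ∧ ∀ Q : Subgroup G, IsPGroup 2 Q → Q ≤ X → T ≤ Q → Q = T

theorem MaxIn.cj {X T : Subgroup G} (h : MaxIn X T) (g : G) : MaxIn (cj g X) (cj g T) := by
  refine ⟨isPGroup_cj g h.1, cj_mono g h.2.1, fun Q hQ hle hTQ => ?_⟩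
  have := h.2.2 (CITSolv.cj g⁻¹ Q) (isPGroup_cj _ hQ)
    (by rw [cj_le_iff, inv_inv]; exact hle) (cj_le_iff.1 hTQ)
  rw [← this, cj_cj, mul_inv_cancel, cj_one]

theorem cj_top (g : G) : cj g (⊤ : Subgroup G) = ⊤ :=
  eq_top_iff.2 fun x _ => mem_cj.2 (mem_top _)

/-- the join of the elementary subgroups of largest order -/
def Jn (T : Subgroup G) : Subgroup G :=
  sSup {A | Elem A ∧ A ≤ T ∧ ∀ B : Subgroup G, Elem B → B ≤ T → Nat.card B ≤ Nat.card A}

theorem Jn_le (T : Subgroup G) : Jn T ≤ T := sSup_le fun _ h => h.2.1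

theorem cj_Jn_le (g : G) (T : Subgroup G) : cj g (Jn T) ≤ Jn (cj g T) := by
  rw [cj_le_iff]
  refine sSup_le fun A hA => cj_le_iff.1 (le_sSup ⟨hA.1.cj g, cj_mono g hA.2.1, fun B hB hBT => ?_⟩)
  rw [card_cj]
  have := hA.2.2 (CITSolv.cj g⁻¹ B) (hB.cj _) (by rw [cj_le_iff, inv_inv]; exact hBT)
  rwa [card_cj] at this

theorem cj_Jn (g : G) (T : Subgroup G) : cj g (Jn T) = Jn (cj g T) := by
  refine le_antisymm (cj_Jn_le g T) ?_
  have := cj_mono g (cj_Jn_le g⁻¹ (cj g T))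
  rwa [cj_cj, cj_cj, mul_inv_cancel, cj_one, inv_mul_cancel, cj_one] at this

theorem normalizer_le_normalizer_Jn (T : Subgroup G) :
    normalizer (T : Set G) ≤ normalizer (Jn T : Set G) := fun g hg =>
  mem_normalizer_of_cj (by rw [cj_Jn, cj_eq_self hg])

variable [Finite G]

theorem card_lt_of_lt {H K : Subgroup G} (h : H < K) : Nat.card H < Nat.card K :=
  lt_of_not_ge fun hc => h.ne (eq_of_le_of_card_ge h.le hc)

theorem Jn_ne_bot {T : Subgroup G} (hT : IsPGroup 2 T) (hne : T ≠ ⊥) : Jn T ≠ ⊥ := by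
  haveI : Fact (Nat.Prime 2) := ⟨Nat.prime_two⟩
  obtain ⟨A, hA, hmax⟩ := Set.exists_max_image {A : Subgroup G | Elem A ∧ A ≤ T} (fun A => Nat.card A)
    (Set.toFinite _) ⟨⊥, fun a ha => by rw [mem_bot.1 ha, mul_one], bot_le⟩
  obtain ⟨⟨x, hx⟩, hx1⟩ := (ne_bot_iff_exists_ne_one).1 hne
  obtain ⟨k, hk⟩ := hT ⟨x, hx⟩
  obtain ⟨n, hn⟩ := exists_pow_order_two (fun e => hx1 (Subtype.ext e)) (congrArg Subtype.val hk : x ^ 2 ^ k = 1)
  intro e
  have hAJ : A ≤ Jn T := le_sSup ⟨hA.1, hA.2, fun B hB hBT => hmax B ⟨hB, hBT⟩⟩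
  rw [e, le_bot_iff] at hAJ
  have hE : Elem (zpowers (x ^ n)) := by
    rintro y ⟨i, rfl⟩
    show (x ^ n) ^ i * (x ^ n) ^ i = 1
    rw [← (Commute.refl (x ^ n)).mul_zpow, mul_self_of_order hn, one_zpow]
  have := hmax (zpowers (x ^ n)) ⟨hE, zpowers_le.2 (pow_mem hx n)⟩
  rw [hAJ, card_bot, Nat.card_zpowers, hn] at this
  omega

theorem exists_maxIn {X U : Subgroup G} (hU : IsPGroup 2 U) (hle : U ≤ X) : ∃ T, MaxIn X T ∧ U ≤ T := by
  obtain ⟨S, hS⟩ := (hU.comap_subtype (K := X)).exists_le_sylow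
  refine ⟨(S : Subgroup X).map X.subtype, ⟨S.2.map _, map_subtype_le _, fun Q hQ hQX hSQ => ?_⟩, fun u hu => ?_⟩
  · have := S.is_maximal' (hQ.comap_subtype (K := X)) (fun s hs => hSQ ⟨s, hs, rfl⟩)
    refine le_antisymm (fun q hq => ⟨⟨q, hQX hq⟩, this ▸ (show (⟨q, hQX hq⟩ : X) ∈ Q.subgroupOf X from hq), rfl⟩) hSQ
  · exact ⟨⟨u, hle hu⟩, hS hu, rfl⟩

theorem MaxIn.conj {X T T' : Subgroup G} (h : MaxIn X T) (h' : MaxIn X T') :
    ∃ x ∈ X, CITSolv.cj x T = T' := by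
  haveI : Fact (Nat.Prime 2) := ⟨Nat.prime_two⟩
  have mk : ∀ {U : Subgroup G}, MaxIn X U → ∀ {Q : Subgroup X}, IsPGroup 2 Q → U.subgroupOf X ≤ Q →
      Q = U.subgroupOf X := by
    intro U hU Q hQ hle
    have := hU.2.2 (Q.map X.subtype) (hQ.map _) (map_subtype_le _)
      (fun u hu => ⟨⟨u, hU.2.1 hu⟩, hle hu, rfl⟩)
    rw [← this, subgroupOf, comap_map_eq_self_of_injective X.subtype_injective]
  obtain ⟨x, hx⟩ := MulAction.exists_smul_eq X (⟨T.subgroupOf X, h.1.comap_subtype, mk h⟩ : Sylow 2 X)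
    (⟨T'.subgroupOf X, h'.1.comap_subtype, mk h'⟩ : Sylow 2 X)
  have hx' : (MulAut.conj x • T.subgroupOf X : Subgroup X) = T'.subgroupOf X := congrArg Sylow.toSubgroup hx
  refine ⟨x, x.2, ?_⟩
  refine h'.2.2 _ (isPGroup_cj _ h.1) (fun y hy => ?_) (fun y hy => ?_)
  · have := mem_cj.1 hy
    have h1 := mul_mem (mul_mem x.2 (h.2.1 this)) (inv_mem x.2)
    rwa [show (x : G) * ((x : G)⁻¹ * y * x) * (x : G)⁻¹ = y by group] at h1
  · have h1 : (⟨y, h'.2.1 hy⟩ : X) ∈ (MulAut.conj x • T.subgroupOf X : Subgroup X) := hx' ▸ hy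
    rw [Subgroup.mem_pointwise_smul_iff_inv_smul_mem] at h1
    refine mem_cj.2 ?_
    simpa [mem_subgroupOf, MulAut.smul_def, mul_assoc] using h1

variable (G) in
/-- in no local does an elementary subgroup of largest order of the Sylow subgroup leave the core -/
def NoOff : Prop :=
  ∀ P T : Subgroup G, Loc P T → ∀ A : Subgroup G, Elem A → A ≤ T →
    (∀ B : Subgroup G, Elem B → B ≤ T → Nat.card B ≤ Nat.card A) → A ≤ P

theorem Loc.Jn_eq (hno : NoOff G) {P T : Subgroup G} (h : Loc P T) : Jn T = Jn P := by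
  obtain ⟨A₀, hA₀, hmax⟩ := Set.exists_max_image {A : Subgroup G | Elem A ∧ A ≤ T} (fun A => Nat.card A)
    (Set.toFinite _) ⟨⊥, fun a ha => by rw [mem_bot.1 ha, mul_one], bot_le⟩
  have hA₀P : A₀ ≤ P := hno P T h A₀ hA₀.1 hA₀.2 fun B hB hBT => hmax B ⟨hB, hBT⟩
  refine le_antisymm (sSup_le_sSup fun A hA => ⟨hA.1, hno P T h A hA.1 hA.2.1 hA.2.2, fun B hB hBP =>
    hA.2.2 B hB (hBP.trans h.le_T)⟩) (sSup_le_sSup fun A hA => ⟨hA.1, hA.2.1.trans h.le_T, fun B hB hBT => ?_⟩)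
  exact (hmax B ⟨hB, hBT⟩).trans (hA.2.2 A₀ hA₀.1 hA₀P)

/-- the control of the 2-locals with a large Sylow subgroup -/
theorem local_le (hno : NoOff G) {d : ℕ}
    (hd : ∀ S₁ S₂ : Subgroup G, MaxIn ⊤ S₁ → MaxIn ⊤ S₂ → d < Nat.card ↥(S₁ ⊓ S₂) →
      normalizer (Jn S₁ : Set G) = normalizer (Jn S₂ : Set G))
    (n : ℕ) : ∀ R T S : Subgroup G, IsPGroup 2 R → R ≠ ⊥ → MaxIn (normalizer (R : Set G)) T → d < Nat.card T →
      MaxIn ⊤ S → T ≤ S → (Nat.card G + 1) * (Nat.card G + 1) ≤ Nat.card T * (Nat.card G + 1) + Nat.card R + n →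
      normalizer (R : Set G) ≤ normalizer (Jn S : Set G) := by
  haveI : Fact (Nat.Prime 2) := ⟨Nat.prime_two⟩
  induction n using Nat.strong_induction_on with
  | _ n ih =>
    intro R T S hR hR1 hT hdT hS hTS hn
    have hTG : Nat.card T ≤ Nat.card G := card_le_card_group T
    have hRG : Nat.card R ≤ Nat.card G := card_le_card_group R
    have hn0 : 0 < n := by
      by_contra h0
      have : Nat.card T * (Nat.card G + 1) ≤ Nat.card G * (Nat.card G + 1) := Nat.mul_le_mul_right _ hTG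
      have e : (Nat.card G + 1) * (Nat.card G + 1) = Nat.card G * (Nat.card G + 1) + Nat.card G + 1 := by ring
      omega
    -- a larger 2-local with a Sylow subgroup over `T`
    have step : ∀ (R' T' : Subgroup G), IsPGroup 2 R' → R' ≠ ⊥ → MaxIn (normalizer (R' : Set G)) T' → T ≤ T' →
        Nat.card T * (Nat.card G + 1) + Nat.card R < Nat.card T' * (Nat.card G + 1) + Nat.card R' →
        normalizer (R' : Set G) ≤ normalizer (Jn S : Set G) := by
      intro R' T' hR' hR'1 hT' hle hlt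
      have hdT' : d < Nat.card T' := hdT.trans_le (card_le_of_le hle)
      obtain ⟨S', hS', hTS'⟩ := exists_maxIn hT'.1 (le_top : T' ≤ ⊤)
      rw [hd S S' hS hS' (hdT.trans_le (card_le_of_le (le_inf hTS (hle.trans hTS'))))]
      exact ih (n - 1) (by omega) R' T' S' hR' hR'1 hT' hdT' hS' hTS' (by omega)
    have hRc : R ≤ core2 (normalizer (R : Set G)) := le_core2 hR le_normalizer le_rfl
    by_cases hcore : core2 (normalizer (R : Set G)) = R
    · have hloc : Loc R T := ⟨hR, hR1, hcore, hT.1, hT.2.1, hT.2.2⟩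
      have hNJ : normalizer (R : Set G) ≤ normalizer (Jn T : Set G) := by
        rw [hloc.Jn_eq hno]; exact normalizer_le_normalizer_Jn R
      by_cases hTe : T = S
      · rwa [hTe] at hNJ
      obtain ⟨s, hs, hsT, hsN⟩ := exists_normalizing hS.1 (lt_of_le_of_ne hTS hTe)
      have hTN : T ⊔ zpowers s ≤ normalizer (Jn T : Set G) :=
        (sup_le le_normalizer (zpowers_le.2 hsN)).trans (normalizer_le_normalizer_Jn T)
      obtain ⟨T', hT', hle⟩ := exists_maxIn (hS.1.to_le (sup_le hTS (zpowers_le.2 hs))) hTN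
      have hT0 : T ≠ ⊥ := fun e => hR1 (le_bot_iff.1 (e ▸ hloc.le_T))
      refine hNJ.trans (step (Jn T) T' (hT.1.to_le (Jn_le T)) (Jn_ne_bot hT.1 hT0) hT' (le_sup_left.trans hle) ?_)
      have hlt : Nat.card T < Nat.card T' := card_lt_of_lt
        (lt_of_le_of_ne (le_sup_left.trans hle) fun e => hsT (e ▸ hle (mem_sup_right (mem_zpowers s))))
      calc Nat.card T * (Nat.card G + 1) + Nat.card R < (Nat.card T + 1) * (Nat.card G + 1) := by
            rw [Nat.succ_mul]; omega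
        _ ≤ Nat.card T' * (Nat.card G + 1) := Nat.mul_le_mul_right _ hlt
        _ ≤ _ := Nat.le_add_right _ _
    · have hlt : Nat.card R < Nat.card ↥(core2 (normalizer (R : Set G))) :=
        card_lt_of_lt (lt_of_le_of_ne hRc (Ne.symm hcore))
      have hNN := core2_normal (normalizer (R : Set G))
      obtain ⟨T', hT', hle⟩ := exists_maxIn hT.1 (hT.2.1.trans hNN)
      refine hNN.trans (step _ T' (core2_isPGroup _) (fun e => hR1 (le_bot_iff.1 (e ▸ hRc))) hT' hle ?_)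
      have := Nat.mul_le_mul_right (Nat.card G + 1) (card_le_of_le hle)
      omega

/-- Sylow subgroups meeting non-trivially give the same normaliser -/
theorem normalizer_Jn_eq (hno : NoOff G) {S₁ S₂ : Subgroup G} (hS₁ : MaxIn ⊤ S₁) (hS₂ : MaxIn ⊤ S₂)
    (hne : S₁ ⊓ S₂ ≠ ⊥) : normalizer (Jn S₁ : Set G) = normalizer (Jn S₂ : Set G) := by
  haveI : Fact (Nat.Prime 2) := ⟨Nat.prime_two⟩
  by_contra hbad
  obtain ⟨⟨A, B⟩, ⟨hA, hB, hAB, hABne⟩, hmax⟩ := Set.exists_max_image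
    {p : Subgroup G × Subgroup G | MaxIn ⊤ p.1 ∧ MaxIn ⊤ p.2 ∧ p.1 ⊓ p.2 ≠ ⊥ ∧
      normalizer (Jn p.1 : Set G) ≠ normalizer (Jn p.2 : Set G)}
    (fun p => Nat.card ↥(p.1 ⊓ p.2)) (Set.toFinite _) ⟨(S₁, S₂), hS₁, hS₂, hne, hbad⟩
  set R := A ⊓ B with hR
  have hR2 : IsPGroup 2 R := hA.1.to_le inf_le_left
  have hd : ∀ C D : Subgroup G, MaxIn ⊤ C → MaxIn ⊤ D → Nat.card R < Nat.card ↥(C ⊓ D) →
      normalizer (Jn C : Set G) = normalizer (Jn D : Set G) := by
    intro C D hC hD hlt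
    by_contra hb
    have h1 : C ⊓ D ≠ ⊥ := fun e => by
      rw [e, card_bot] at hlt
      exact absurd hlt (not_lt.2 Nat.card_pos)
    exact absurd (hmax (C, D) ⟨hC, hD, h1, hb⟩) (not_le.2 hlt)
  -- a larger subgroup on each side
  have side : ∀ C : Subgroup G, MaxIn ⊤ C → R ≤ C → R ≠ C →
      ∃ T S, MaxIn (normalizer (R : Set G)) T ∧ Nat.card R < Nat.card T ∧ MaxIn ⊤ S ∧ T ≤ S ∧
        normalizer (Jn C : Set G) = normalizer (Jn S : Set G) := by
    intro C hC hRC hne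
    obtain ⟨s, hs, hsR, hsN⟩ := exists_normalizing hC.1 (lt_of_le_of_ne hRC hne)
    have hU : R ⊔ zpowers s ≤ C := sup_le hRC (zpowers_le.2 hs)
    obtain ⟨T, hT, hle⟩ := exists_maxIn (hC.1.to_le hU) (sup_le le_normalizer (zpowers_le.2 hsN) :
      R ⊔ zpowers s ≤ normalizer (R : Set G))
    obtain ⟨S, hS, hTS⟩ := exists_maxIn hT.1 (le_top : T ≤ ⊤)
    have hlt : Nat.card R < Nat.card ↥(R ⊔ zpowers s) := card_lt_of_lt
      (lt_of_le_of_ne le_sup_left fun e => hsR (e.symm ▸ mem_sup_right (mem_zpowers s)))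
    exact ⟨T, S, hT, hlt.trans_le (card_le_of_le hle), hS, hTS,
      hd C S hC hS (hlt.trans_le (card_le_of_le (le_inf hU (hle.trans hTS))))⟩
  have hne1 : R ≠ A := fun e => hABne (congrArg (fun X : Subgroup G => normalizer (Jn X : Set G))
    (hA.2.2 B hB.1 le_top (e.ge.trans inf_le_right)).symm)
  have hne2 : R ≠ B := fun e => hABne (congrArg (fun X : Subgroup G => normalizer (Jn X : Set G))
    (hB.2.2 A hA.1 le_top (e.ge.trans inf_le_left)))
  obtain ⟨T, S, hT, hlt, hS, hTS, e1⟩ := side A hA inf_le_left hne1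
  obtain ⟨T', S', hT', hlt', hS', hTS', e2⟩ := side B hB inf_le_right hne2
  obtain ⟨x, hx, hxT⟩ := hT.conj hT'
  have hxM := local_le hno hd ((Nat.card G + 1) * (Nat.card G + 1)) R T S hR2 hAB hT hlt hS hTS
    (Nat.le_add_left _ _) hx
  have hxS : MaxIn ⊤ (cj x S) := cj_top (G := G) x ▸ hS.cj x
  have e3 := hd S' (cj x S) hS' hxS (hlt'.trans_le (card_le_of_le (le_inf hTS' (hxT ▸ cj_mono x hTS))))
  refine hABne ?_
  rw [e1, e2, e3, ← cj_Jn, ← cj_normalizer, cj_eq_self (le_normalizer hxM)]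

theorem exists_strongly_embedded (hno : NoOff G) (h2 : Even (Nat.card G))
    (hnt : ∀ R : Subgroup G, IsPGroup 2 R → R ≠ ⊥ → normalizer (R : Set G) ≠ ⊤) :
    ∃ S J : Subgroup G, MaxIn ⊤ S ∧ IsPGroup 2 J ∧ J ≠ ⊥ ∧ S ≤ normalizer (J : Set G) ∧
      Cfsg.IsStronglyEmbedded (normalizer (J : Set G)) := by
  haveI : Fact (Nat.Prime 2) := ⟨Nat.prime_two⟩
  obtain ⟨t, ht⟩ := exists_prime_orderOf_dvd_card' (G := G) 2 (even_iff_two_dvd.1 h2)
  obtain ⟨S, hS, htS⟩ := exists_maxIn (IsPGroup.of_card (n := 1) (G := zpowers t)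
    (by rw [Nat.card_zpowers, ht, pow_one])) (le_top : zpowers t ≤ ⊤)
  have hS0 : S ≠ ⊥ := fun e => ne_one_of_order ht (mem_bot.1 (e ▸ htS (mem_zpowers t)))
  set M := normalizer (Jn S : Set G) with hM
  have hSM : S ≤ M := le_normalizer.trans (normalizer_le_normalizer_Jn S)
  have hSin : MaxIn M S := ⟨hS.1, hSM, fun Q hQ _ hle => hS.2.2 Q hQ le_top hle⟩
  have hself : ∀ g : G, cj g M = M → g ∈ M := by
    intro g hg
    obtain ⟨m, hm, e⟩ := hSin.conj (hg ▸ hSin.cj g)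
    have h1 : cj (g⁻¹ * m) S = S := by rw [← cj_cj, e, cj_cj, inv_mul_cancel, cj_one]
    have h2 : g⁻¹ * m ∈ M := normalizer_le_normalizer_Jn S (mem_normalizer_of_cj h1)
    have := mul_mem h2 (inv_mem hm)
    rwa [mul_inv_cancel_right, inv_mem_iff] at this
  have hJ := hS.1.to_le (Jn_le S)
  have hJ0 := Jn_ne_bot hS.1 hS0
  refine ⟨S, Jn S, hS, hJ, hJ0, hSM, hnt _ hJ hJ0, ?_, fun g hg => ?_⟩
  · exact even_iff_two_dvd.2 (ht ▸ (Subgroup.orderOf_mk t (hSM (htS (mem_zpowers t))) ▸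
      orderOf_dvd_natCard (⟨t, hSM (htS (mem_zpowers t))⟩ : M)))
  by_contra hodd
  obtain ⟨u, hu⟩ := exists_prime_orderOf_dvd_card' (G := ↥(M ⊓ M.map (MulAut.conj g).toMonoidHom)) 2
    (even_iff_two_dvd.1 (Nat.not_odd_iff_even.1 hodd))
  have huo : orderOf (u : G) = 2 := by rw [Subgroup.orderOf_coe, hu]
  have hu1 : (u : G) ∈ M := u.2.1
  have hu2 : g⁻¹ * u * g ∈ M := mem_cj.1 u.2.2
  have key : ∀ y : G, orderOf y = 2 → y ∈ M → ∃ m ∈ M, y ∈ cj m S := by
    intro y hy hyM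
    obtain ⟨T, hT, hle⟩ := exists_maxIn (IsPGroup.of_card (n := 1) (G := zpowers y)
      (by rw [Nat.card_zpowers, hy, pow_one])) (zpowers_le.2 hyM)
    obtain ⟨m, hm, rfl⟩ := hSin.conj hT
    exact ⟨m, hm, hle (mem_zpowers y)⟩
  obtain ⟨m, hm, hum⟩ := key _ huo hu1
  obtain ⟨m', hm', hum'⟩ := key (g⁻¹ * u * g) (by
    rw [show g⁻¹ * (u : G) * g = MulAut.conj g⁻¹ u by simp, MulEquiv.orderOf_eq, huo]) hu2
  have hum'' : (u : G) ∈ cj (g * m') S := by
    rw [← cj_cj, mem_cj]; exact hum'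
  have hcjS : ∀ y : G, MaxIn ⊤ (cj y S) := fun y => cj_top (G := G) y ▸ hS.cj y
  have hMM := normalizer_Jn_eq hno (hcjS m) (hcjS (g * m'))
    (fun e => ne_one_of_order huo (mem_bot.1 (e ▸ mem_inf.2 ⟨hum, hum''⟩)))
  rw [← cj_Jn, ← cj_Jn, ← cj_normalizer, ← cj_normalizer, ← hM, cj_eq_self (le_normalizer hm),
    ← cj_cj, cj_eq_self (le_normalizer hm')] at hMM
  exact hg (hself g hMM.symm)

end Cfsg.Agent.CITSolv
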