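import Cfsg.Agent.CITSolv.Four
import Cfsg.Agent.CITSolv.Control
import Cfsg.Agent.SuzukiTI.Main
import Cfsg.Agent.S1225
import Cfsg.Agent.SelfCentNC.Forward

/-!
Simple groups with 2-group involution centralisers and solvable 2-locals.
-/

set_option autoImplicit false
set_option linter.style.haveILetI false
set_option linter.unusedSectionVars false

open Subgroup

namespace Cfsg.Agent.CITSolv

universe u

variable {G : Type u} [Group G] [Finite G] [IsSimpleGroup G]

theorem no_index_two (hna : ¬ IsMulCommutative G) (N : Subgroup G) (hN : N.Normal) : N.index ≠ 2 := by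
  intro h
  rcases hN.eq_bot_or_eq_top with rfl | rfl
  · rw [index_bot] at h
    haveI : Fact (Nat.Prime 2) := ⟨Nat.prime_two⟩
    have : IsCyclic G := isCyclic_of_prime_card (p := 2) h
    exact hna ⟨⟨fun a b => (IsCyclic.commGroup (α := G)).mul_comm a b⟩⟩
  · rw [index_top] at h
    omega

theorem not_twoGroup (hna : ¬ IsMulCommutative G) : ¬ IsPGroup 2 G := by
  intro h
  haveI : Fact (Nat.Prime 2) := ⟨Nat.prime_two⟩
  haveI := h.center_nontrivial
  rcases (inferInstance : (center G).Normal).eq_bot_or_eq_top with e | e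
  · exact (Subgroup.nontrivial_iff_ne_bot _).1 inferInstance e
  · exact hna ⟨⟨fun a b => (mem_center_iff.1 (e ▸ mem_top b) a)⟩⟩

theorem normalizer_ne_top (hna : ¬ IsMulCommutative G) (R : Subgroup G) (hR : IsPGroup 2 R) (hne : R ≠ ⊥) :
    normalizer (R : Set G) ≠ ⊤ := fun e => by
  haveI := normalizer_eq_top_iff.1 e
  rcases (inferInstance : R.Normal).eq_bot_or_eq_top with rfl | rfl
  · exact hne rfl
  · exact not_twoGroup hna (hR.of_equiv topEquiv)

theorem even_card (hna : ¬ IsMulCommutative G) : Even (Nat.card G) := by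
  obtain ⟨V, hV⟩ := Cfsg.Agent.S0204.result (G := G) (fun hc => hna ⟨⟨fun a b =>
    (IsCyclic.commGroup (α := G)).mul_comm a b⟩⟩)
  exact even_iff_two_dvd.2 ((by rw [hV.card_four]; norm_num : 2 ∣ Nat.card V).trans V.card_subgroup_dvd_card)

/-- the strongly embedded case -/
theorem of_strongly_embedded (hna : ¬ IsMulCommutative G) (hC : CIT G) {S J : Subgroup G} (hS : MaxIn ⊤ S)
    (hJ0 : J ≠ ⊥) (hSM : S ≤ normalizer (J : Set G)) (hsol : Group.IsSolvable ↥(normalizer (J : Set G)))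
    (hSE : Cfsg.IsStronglyEmbedded (normalizer (J : Set G))) :
    (∃ (F : Type) (_ : Field F) (_ : Fintype F), CharP F 2 ∧ 4 ≤ Fintype.card F ∧
      Nonempty (G ≃* Matrix.ProjectiveSpecialLinearGroup (Fin 2) F)) ∨ Cfsg.IsSuzuki G := by
  classical
  haveI : Fact (Nat.Prime 2) := ⟨Nat.prime_two⟩
  set M := normalizer (J : Set G) with hM
  have hback : ∀ x g : G, x ≠ 1 → x ∈ M → (∃ k : ℕ, x ^ 2 ^ k = 1) → g⁻¹ * x * g ∈ M → g ∈ M := by
    intro x g hx1 hxM ⟨k, hk⟩ hg
    by_contra hgM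
    obtain ⟨n, hn⟩ := exists_pow_order_two hx1 hk
    have hm : x ^ n ∈ M ⊓ M.map (MulAut.conj g).toMonoidHom := mem_inf.2 ⟨pow_mem hxM n,
      (mem_cj (g := g) (H := M)).2 (by
        have := pow_mem hg n
        rwa [show g⁻¹ * x * g = g⁻¹ * x * g⁻¹⁻¹ by rw [inv_inv], conj_pow, inv_inv] at this)⟩
    have h2 : 2 ∣ Nat.card ↥(M ⊓ M.map (MulAut.conj g).toMonoidHom) := by
      rw [← hn, ← Subgroup.orderOf_mk _ hm]
      exact orderOf_dvd_natCard _
    exact Nat.not_even_iff_odd.2 (hSE.2.2 g hgM) (even_iff_two_dvd.2 h2)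
  have hindex : ¬ 2 ∣ M.index := by
    obtain ⟨S', hS'⟩ := hS.1.exists_le_sylow
    have hSS : (S' : Subgroup G) = S := hS.2.2 _ S'.2 le_top hS'
    exact fun hd => S'.not_dvd_index (hd.trans (index_dvd_of_le (hSS.le.trans hSM)))
  -- there is no normal subgroup of index two
  have hnoidx : ∀ N : Subgroup M, N.Normal → N.index ≠ 2 := by
    intro N hN hN2
    obtain ⟨b, hb⟩ : ∃ b : M, b ∉ N := by
      by_contra! hall
      have e : N = ⊤ := eq_top_iff.2 fun x _ => hall x
      rw [e, index_top] at hN2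
      omega
    obtain ⟨e, m, hm, hd⟩ := Nat.exists_eq_pow_mul_and_not_dvd (orderOf_pos b).ne' 2 (by decide)
    set a := b ^ m with ha
    have haN : a ∉ N := fun hmem => hb (by
      obtain ⟨j, hj⟩ : ∃ j, m = 2 * j + 1 := ⟨m / 2, by omega⟩
      rw [ha, hj, pow_succ, pow_mul] at hmem
      have h2 : b ^ 2 ∈ N := by
        rw [pow_two]; exact (mul_mem_iff_of_index_two hN2).2 Iff.rfl
      exact (mul_mem_cancel_left (pow_mem h2 j)).1 hmem)
    set φ := TwoTransfer.sgn N hN2 with hφ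
    have hφa : φ a ≠ 1 := by
      rw [hφ, TwoTransfer.sgn_apply_of_notMem N hN2 haN]; exact fun h => by simp at h
    have ha2 : a ^ 2 ^ e = 1 := by rw [ha, ← pow_mul, mul_comm, ← hd, pow_orderOf_eq_one]
    have hfused := SelfCentNC.transfer_of_fused φ a (fun k g₀ hk => by
      by_cases hak : ((a : G)) ^ k = 1
      · rw [show (⟨g₀⁻¹ * (a : G) ^ k * g₀, hk⟩ : M) = 1 from Subtype.ext (by simp [hak]), map_one, ← map_pow,
          show a ^ k = 1 from Subtype.ext (by simpa using hak), map_one]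
      · have hg : g₀ ∈ M := hback _ g₀ hak (pow_mem a.2 k) ⟨e, by
          rw [← pow_mul, mul_comm, pow_mul, show (a : G) ^ 2 ^ e = 1 from congrArg Subtype.val ha2, one_pow]⟩ hk
        rw [show (⟨g₀⁻¹ * (a : G) ^ k * g₀, hk⟩ : M) = ⟨g₀, hg⟩⁻¹ * a ^ k * ⟨g₀, hg⟩ from Subtype.ext (by simp),
          map_mul, map_mul, map_inv, map_pow, mul_comm ((φ ⟨g₀, hg⟩)⁻¹), mul_assoc, inv_mul_cancel, mul_one])
    set ψ := MonoidHom.transfer φ with hψ
    have hψa : ψ (a : G) ≠ 1 := by
      rw [hψ, hfused]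
      obtain ⟨j, hj⟩ := Nat.odd_iff.2 (by omega : M.index % 2 = 1)
      rw [hj, pow_succ, pow_mul, SelfCentNC.multiplicative_two_sq, one_pow, one_mul]
      exact hφa
    rcases (inferInstance : ψ.ker.Normal).eq_bot_or_eq_top with h | h
    · exact hna ⟨⟨fun p q => (MonoidHom.ker_eq_bot_iff ψ).1 h (by rw [map_mul, map_mul, mul_comm])⟩⟩
    · exact hψa (MonoidHom.mem_ker.1 (h ▸ mem_top _))
  -- so the Sylow subgroup is the normal core
  haveI := hsol
  set K := Cfsg.pCore 2 M with hK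
  have hK2 : IsPGroup 2 K := Core.pCore_isPGroup
  have hodd : ¬ 2 ∣ Nat.card (M ⧸ K) := by
    intro hd
    obtain ⟨t, ht⟩ := exists_prime_orderOf_dvd_card' (G := M ⧸ K) 2 hd
    obtain ⟨N, hN, hN2⟩ := exists_index_two_of_core ((hC.subgroup M).quotient K hK2) inferInstance
      Core.pCore_quotient_eq_bot ht
    exact hnoidx (N.comap (QuotientGroup.mk' K)) inferInstance
      (by rw [index_comap_of_surjective _ (QuotientGroup.mk'_surjective K), hN2])
  have htwo : ∀ x ∈ M, (∃ k : ℕ, x ^ 2 ^ k = 1) → x ∈ S := by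
    have hmemK : ∀ x : M, (∃ k : ℕ, (x : G) ^ 2 ^ k = 1) → x ∈ K := by
      intro x ⟨k, hk⟩
      rw [← QuotientGroup.eq_one_iff]
      by_contra hne
      obtain ⟨n, hn⟩ := exists_pow_order_two (y := (x : M ⧸ K)) hne (k := k) (by
        rw [← QuotientGroup.mk_pow, show x ^ 2 ^ k = 1 from Subtype.ext (by simpa using hk), QuotientGroup.mk_one])
      exact hodd (hn ▸ orderOf_dvd_natCard _)
    have hSK : S ≤ K.map M.subtype := fun s hs => ⟨⟨s, hSM hs⟩, hmemK _ (by
      obtain ⟨k, hk⟩ := hS.1 ⟨s, hs⟩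
      exact ⟨k, congrArg Subtype.val hk⟩), rfl⟩
    have heq := hS.2.2 _ (hK2.map _) le_top hSK
    intro x hx hk
    rw [← heq]
    exact ⟨⟨x, hx⟩, hmemK _ hk, rfl⟩
  have hSnorm : M ≤ normalizer (S : Set G) := by
    intro x hx
    refine Invol.mem_normalizer_of_conj_le ?_
    rintro q ⟨s, hs, rfl⟩
    show x * s * x⁻¹ ∈ S
    refine htwo _ (mul_mem (mul_mem hx (hSM hs)) (inv_mem hx)) ?_
    obtain ⟨k, hk⟩ := hS.1 ⟨s, hs⟩
    refine ⟨k, ?_⟩
    rw [conj_pow, show s ^ 2 ^ k = 1 from congrArg Subtype.val hk, mul_one, mul_inv_cancel]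
  have hcentM : ∀ y ∈ S, y ≠ 1 → ∀ g : G, Commute g y → g ∈ S := by
    intro y hy hy1 g hg
    have hk2 : ∃ k : ℕ, y ^ 2 ^ k = 1 := by
      obtain ⟨k, hk⟩ := hS.1 ⟨y, hy⟩
      exact ⟨k, congrArg Subtype.val hk⟩
    have hgM : g ∈ M := hback y g hy1 (hSM hy) hk2 (by rw [mul_assoc, ← hg.eq, inv_mul_cancel_left]; exact hSM hy)
    refine htwo g hgM ?_
    obtain ⟨e, m, hm, hd⟩ := Nat.exists_eq_pow_mul_and_not_dvd (orderOf_pos g).ne' 2 (by decide)
    refine ⟨e, hC.eq_one_of_mem hS.1 hy hy1 (hg.pow_left _) ?_⟩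
    rw [orderOf_pow_of_dvd (by positivity) ⟨m, hd⟩, hd, Nat.mul_div_cancel_left _ (by positivity)]
    exact Nat.odd_iff.2 (by omega)
  -- an involution outside `M`
  obtain ⟨t, ht⟩ := exists_prime_orderOf_dvd_card' (G := M) 2 (even_iff_two_dvd.1 hSE.2.1)
  have htG : orderOf (t : G) = 2 := by rw [Subgroup.orderOf_coe, ht]
  have htS : (t : G) ∈ S := htwo _ t.2 ⟨1, by rw [pow_one, pow_two]; exact mul_self_of_order htG⟩
  obtain ⟨w, hw, hwM⟩ : ∃ w : G, orderOf w = 2 ∧ w ∉ M := by
    by_contra! hall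
    let N : Subgroup G := normalClosure {y | orderOf y = 2}
    rcases (inferInstance : N.Normal).eq_bot_or_eq_top with e | e
    · exact ne_one_of_order htG (mem_bot.1 (e ▸ subset_normalClosure (show (t : G) ∈ {y | orderOf y = 2} from htG)))
    · refine hSE.1 (eq_top_iff.2 (e ▸ (closure_le M).2 fun y hy => hall y ?_))
      obtain ⟨x, hx, hxy⟩ := Group.mem_conjugatesOfSet_iff.1 hy
      obtain ⟨g, rfl⟩ := isConj_iff.1 hxy
      rw [Invol.orderOf_conj]
      exact hx
  have hSdM : M ≠ S := by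
    intro e
    obtain ⟨n, hn⟩ := IsPGroup.iff_card.1 hS.1
    rcases n with _ | n
    · rw [pow_zero, card_eq_one] at hn
      exact ne_one_of_order htG (mem_bot.1 (hn ▸ htS))
    · have hnM : Nat.card M = 2 ^ (n + 1) := by rw [e]; exact hn
      obtain ⟨N, hN⟩ := Sylow.exists_subgroup_card_pow_prime 2
        (show 2 ^ n ∣ Nat.card M by rw [hnM]; exact pow_dvd_pow 2 n.le_succ)
      have hi : N.index = 2 := by
        have := N.card_mul_index
        rw [hN, hnM, pow_succ] at this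
        exact mul_left_cancel₀ (by positivity) this
      exact hnoidx N (normal_of_index_eq_two hi) hi
  have hH : SuzukiTI.Hyp S := by
    refine ⟨fun e => ?_, ?_, ?_, fun y hy hy1 g hg =>
      hcentM y hy hy1 g (mem_centralizer_singleton_iff.1 hg)⟩
    · exact normalizer_ne_top hna S hS.1 (fun e' => ne_one_of_order htG (mem_bot.1 (e' ▸ htS))) e
    · by_contra huniq
      apply hSdM
      refine le_antisymm (fun x hx => ?_) hSM
      refine hcentM _ htS (ne_one_of_order htG) x ?_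
      by_contra hne
      refine huniq ⟨t, x * t * x⁻¹, htS, (mem_normalizer_iff.1 (hSnorm hx) _).1 htS,
        SuzukiTI.inv2_of_orderOf htG, SuzukiTI.inv2_of_orderOf (by rw [Invol.orderOf_conj, htG]), fun e => hne ?_⟩
      exact (eq_mul_inv_iff_mul_eq.1 e).symm
    · intro y hy hy2
      refine le_antisymm (fun g hg => hcentM y hy hy2.1 g (mem_centralizer_singleton_iff.1 hg)) ?_
      haveI : Nontrivial S := ⟨⟨⟨t, htS⟩, 1, fun e => ne_one_of_order htG (congrArg Subtype.val e)⟩⟩
      haveI := hS.1.center_nontrivial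
      obtain ⟨c, hc⟩ := exists_ne (1 : center S)
      obtain ⟨k, hk⟩ := hS.1 (c : S)
      obtain ⟨n, hn⟩ := exists_pow_order_two (fun e => hc (Subtype.ext e)) hk
      obtain ⟨d, hd, hd'⟩ := (Cfsg.Agent.S1225.result M hSE w hw hwM (((c : S) ^ n : S) : G) y
        (by rw [Subgroup.orderOf_coe, hn]) (hSM (SetLike.coe_mem _)) (SuzukiTI.orderOf_inv2 hy2) (hSM hy)).1
      intro s hs
      refine mem_centralizer_singleton_iff.2 ?_
      have hdN := hSnorm hd.1
      have hs' : d⁻¹ * s * d ∈ S := (mem_normalizer_iff''.1 hdN s).1 hs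
      have := congrArg Subtype.val (mem_center_iff.1 (pow_mem c.2 n) ⟨_, hs'⟩)
      rw [← hd']
      calc s * (d * (((c : S) ^ n : S) : G) * d⁻¹) = d * (d⁻¹ * s * d * (((c : S) ^ n : S) : G)) * d⁻¹ := by group
        _ = _ := by rw [show d⁻¹ * s * d * (((c : S) ^ n : S) : G) = (((c : S) ^ n : S) : G) * (d⁻¹ * s * d) from this]; group
  rcases hH.main with ⟨F, iF, iFF, h1, h2, -, h3⟩ | h
  · exact Or.inl ⟨F, iF, iFF, h1, h2, h3⟩
  · exact Or.inr h

/-- the four-group case -/
theorem of_four (hna : ¬ IsMulCommutative G) (hC : CIT G) {a b : G} (ha : orderOf a = 2) (hb : orderOf b = 2)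
    (hne : a ≠ b) (hab : a * b = b * a)
    (hcent : ∀ g : G, Commute g a → Commute g b → g = 1 ∨ g = a ∨ g = b ∨ g = a * b) :
    ∃ (F : Type) (_ : Field F) (_ : Fintype F),
      (Fintype.card F = 9 ∨ ((Fintype.card F).Prime ∧ ∃ k : ℕ, Fintype.card F = 2 ^ k + 1 ∨ Fintype.card F = 2 ^ k - 1)) ∧
      Nonempty (G ≃* Matrix.ProjectiveSpecialLinearGroup (Fin 2) F) := by
  classical
  haveI : Fact (Nat.Prime 2) := ⟨Nat.prime_two⟩
  have ha2 := mul_self_of_order ha
  have hb2 := mul_self_of_order hb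
  let E : Subgroup G :=
    { carrier := {g | g * g = 1 ∧ Commute g a ∧ Commute g b}
      one_mem' := ⟨mul_one 1, Commute.one_left a, Commute.one_left b⟩
      mul_mem' := fun {x y} hx hy => ⟨by
        have hxy : Commute x y := by
          rcases hcent y hy.2.1 hy.2.2 with rfl | rfl | rfl | rfl
          · exact Commute.one_right x
          · exact hx.2.1
          · exact hx.2.2
          · exact hx.2.1.mul_right hx.2.2
        rw [hxy.symm.mul_mul_mul_comm, hx.1, hy.1, mul_one], hx.2.1.mul_left hy.2.1, hx.2.2.mul_left hy.2.2⟩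
      inv_mem' := fun {x} hx => by
        rw [inv_eq_of_mul_eq_one_right hx.1]; exact hx }
  have haE : a ∈ E := ⟨ha2, Commute.refl a, hab⟩
  have hbE : b ∈ E := ⟨hb2, hab.symm, Commute.refl b⟩
  obtain ⟨S, hES⟩ := (show IsPGroup 2 E from fun g => ⟨1, Subtype.ext (by
    rw [pow_one, coe_pow, pow_two]; exact g.2.1)⟩).exists_le_sylow
  haveI : Nontrivial (S : Subgroup G) :=
    ⟨⟨a, hES haE⟩, 1, fun e => ne_one_of_order ha (congrArg Subtype.val e)⟩
  haveI := S.2.center_nontrivial
  obtain ⟨c, hc⟩ := exists_ne (1 : center (S : Subgroup G))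
  obtain ⟨k, hk⟩ := S.2 (c : (S : Subgroup G))
  obtain ⟨n, hn⟩ := exists_pow_order_two (fun e => hc (Subtype.ext e)) hk
  set z : (S : Subgroup G) := (c : (S : Subgroup G)) ^ n with hzdef
  have hzc : ∀ g : (S : Subgroup G), Commute g z := fun g => mem_center_iff.1 (pow_mem c.2 n) g
  have hzG : orderOf (z : G) = 2 := by rw [Subgroup.orderOf_coe, hn]
  have hza : Commute (z : G) a := (congrArg Subtype.val (hzc ⟨a, hES haE⟩).eq).symm
  have hzb : Commute (z : G) b := (congrArg Subtype.val (hzc ⟨b, hES hbE⟩).eq).symm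
  have hz4 := hcent z hza hzb
  -- a second involution
  obtain ⟨s, hsE, hsS, hs2, hsz, hgen⟩ : ∃ s : G, s ∈ E ∧ s ∈ S ∧ orderOf s = 2 ∧ s ≠ z ∧
      ∀ g : G, Commute g z → Commute g s → Commute g a ∧ Commute g b := by
    rcases hz4 with e | e | e | e
    · exact absurd e (ne_one_of_order hzG)
    · exact ⟨b, hbE, hES hbE, hb, e ▸ hne.symm, fun g h1 h2 => ⟨e ▸ h1, h2⟩⟩
    · exact ⟨a, haE, hES haE, ha, e ▸ hne, fun g h1 h2 => ⟨h2, e ▸ h1⟩⟩
    · refine ⟨a, haE, hES haE, ha, fun e' => ?_, fun g h1 h2 => ⟨h2, ?_⟩⟩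
      · rw [e] at e'
        exact ne_one_of_order hb (left_eq_mul.1 e')
      · have : b = a * (z : G) := by rw [e, ← mul_assoc, ha2, one_mul]
        rw [this]
        exact h2.mul_right h1
  have hC4 : Nat.card ↥(centralizer ({(⟨s, hsS⟩ : (S : Subgroup G))} : Set (S : Subgroup G))) = 4 := by
    have heq : (centralizer ({(⟨s, hsS⟩ : (S : Subgroup G))} : Set (S : Subgroup G))).map
        (S : Subgroup G).subtype = E := by
      refine le_antisymm ?_ fun g hg => ?_
      · rintro g ⟨g', hg', rfl⟩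
        have h1 : Commute (g' : G) s := congrArg Subtype.val (mem_centralizer_singleton_iff.1 hg')
        have h2 : Commute (g' : G) z := congrArg Subtype.val (hzc g').eq
        obtain ⟨h3, h4⟩ := hgen _ h2 h1
        refine ⟨?_, h3, h4⟩
        show (g' : G) * g' = 1
        rcases hcent _ h3 h4 with e | e | e | e <;> rw [e]
        · exact mul_one 1
        · exact ha2
        · exact hb2
        · exact (mul_mem haE hbE).1
      · refine ⟨⟨g, hES hg⟩, mem_centralizer_singleton_iff.2 (Subtype.ext ?_), rfl⟩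
        show g * s = s * g
        rcases hcent g hg.2.1 hg.2.2 with rfl | rfl | rfl | rfl
        · simp
        · exact hsE.2.1.symm
        · exact hsE.2.2.symm
        · exact (hsE.2.1.mul_right hsE.2.2).symm
    rw [← card_map_of_injective (S : Subgroup G).subtype_injective, heq]
    have : (E : Set G) = {1, a, b, a * b} := by
      ext g
      constructor
      · exact fun hg => hcent g hg.2.1 hg.2.2
      · rintro (rfl | rfl | rfl | rfl)
        · exact one_mem E
        · exact haE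
        · exact hbE
        · exact mul_mem haE hbE
    have h1 : a * b ≠ a := fun e => ne_one_of_order hb (mul_eq_left.1 e)
    have h2 : a * b ≠ b := fun e => ne_one_of_order ha (mul_eq_right.1 e)
    have h3 : a * b ≠ 1 := fun e => hne (by rw [eq_inv_of_mul_eq_one_left e, inv_of_order hb])
    show Nat.card (E : Set G) = 4
    rw [Nat.card_coe_set_eq, this,
      Set.ncard_insert_of_notMem (by
        simp only [Set.mem_insert_iff, Set.mem_singleton_iff, not_or]
        exact ⟨(ne_one_of_order ha).symm, (ne_one_of_order hb).symm, h3.symm⟩),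
      Set.ncard_insert_of_notMem (by
        simp only [Set.mem_insert_iff, Set.mem_singleton_iff, not_or]
        exact ⟨hne, h1.symm⟩), Set.ncard_pair h2.symm]
  obtain ⟨m, hm, ⟨e⟩⟩ : ∃ m : ℕ, 2 ≤ m ∧ Nonempty ((S : Subgroup G) ≃* DihedralGroup m) := by
    rcases MaxClass.mc_of_centralizer S.2 _ hC4 with h4 | hd | ⟨k, hcd, x, y, hx, hy, he⟩ | ⟨k, ⟨e⟩⟩
    · have htop : centralizer ({(⟨s, hsS⟩ : (S : Subgroup G))} : Set (S : Subgroup G)) = ⊤ :=
        eq_top_of_card_eq _ (by rw [hC4, h4])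
      have hexp : ∀ g : (S : Subgroup G), g * g = 1 := fun g => by
        have h1 : Commute (g : G) s := congrArg Subtype.val
          (mem_centralizer_singleton_iff.1
          (show g ∈ centralizer ({(⟨s, hsS⟩ : (S : Subgroup G))} : Set (S : Subgroup G)) by rw [htop]; exact mem_top g))
        obtain ⟨h3, h4⟩ := hgen _ (congrArg Subtype.val (hzc g).eq) h1
        refine Subtype.ext (show (g : G) * g = 1 from ?_)
        rcases hcent _ h3 h4 with e | e | e | e <;> rw [e]
        · exact mul_one 1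
        · exact ha2
        · exact hb2
        · exact (mul_mem haE hbE).1
      haveI : Nontrivial (S : Subgroup G) := inferInstance
      haveI : IsKleinFour (S : Subgroup G) := ⟨h4, Nat.dvd_antisymm
        (Monoid.exponent_dvd_of_forall_pow_eq_one fun g => by rw [pow_two]; exact hexp g)
        (by
          have := Monoid.order_dvd_exponent (⟨a, hES haE⟩ : (S : Subgroup G))
          rwa [Subgroup.orderOf_mk, ha] at this)⟩
      exact ⟨2, le_rfl, IsKleinFour.nonempty_mulEquiv⟩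
    · obtain ⟨k, hk⟩ := hd
      exact ⟨_, Nat.le_self_pow (by omega) 2, hk⟩
    · exact absurd (MaxClass.isQuasiDihedral_of_data hcd hx hy he) (SelfCentNC.not_quasiDihedral hna S hC)
    · exfalso
      have hes : orderOf (e ⟨s, hsS⟩) = 2 := by rw [MulEquiv.orderOf_eq, Subgroup.orderOf_mk, hs2]
      have htop : centralizer ({(⟨s, hsS⟩ : (S : Subgroup G))} : Set (S : Subgroup G)) = ⊤ :=
        eq_top_iff.2 fun g _ => mem_centralizer_singleton_iff.2
          (e.injective (by rw [map_mul, map_mul]; exact MaxClass.quaternion_involution_central hes (e g)))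
      rw [htop, card_top, Nat.card_congr e.toEquiv, Nat.card_eq_fintype_card, QuaternionGroup.card] at hC4
      have h2 : 2 ≤ 2 ^ (k + 1) := Nat.le_self_pow (Nat.succ_ne_zero k) 2
      omega
  have hO : Cfsg.oddCore ↥(centralizer ({(z : G)} : Set G)) = ⊥ := SelfCentNC.oddCore_eq_bot (hC _ hzG)
  obtain ⟨F, iF, iFF, hodd, ⟨ψ⟩⟩ := BSWAbstract.dihedral_psl S hm e hzG z.2
    (fun w hw => congrArg Subtype.val (hzc ⟨w, hw⟩).eq) ⊥ (by rw [hO, Subgroup.map_bot])
    (fun hne => absurd rfl hne)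
    (fun w _ hw y hy => absurd (mem_centralizer_iff.2 fun y' hy' => by
      rw [mem_bot.1 (hy' : y' ∈ (⊥ : Subgroup G)), one_mul, mul_one]) hw)
    (fun Y hY hne => absurd (le_bot_iff.1 hY) hne)
  refine ⟨F, iF, iFF, SelfCentNC.card_of_centralizer hodd fun y hy => ?_, ⟨ψ⟩⟩
  refine (hC (ψ.symm y) (by rw [MulEquiv.orderOf_eq, hy])).of_surjective
    ((ψ.toMonoidHom.comp (centralizer ({ψ.symm y} : Set G)).subtype).codRestrict _ fun w => ?_) ?_
  · rw [mem_centralizer_singleton_iff]
    have := congrArg ψ (mem_centralizer_singleton_iff.1 w.2)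
    simpa using this
  · intro v
    refine ⟨⟨ψ.symm v, mem_centralizer_singleton_iff.2 ?_⟩, Subtype.ext (by simp)⟩
    rw [← map_mul, ← map_mul, mem_centralizer_singleton_iff.1 v.2]

/-- Simple groups with 2-group involution centralisers and solvable 2-locals. -/
theorem main (hna : ¬ IsMulCommutative G) (hC : CIT G) (hS : SolLoc G) :
    ((∃ (F : Type) (_ : Field F) (_ : Fintype F), CharP F 2 ∧ 4 ≤ Fintype.card F ∧
      Nonempty (G ≃* Matrix.ProjectiveSpecialLinearGroup (Fin 2) F)) ∨ Cfsg.IsSuzuki G) ∨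
    ∃ (F : Type) (_ : Field F) (_ : Fintype F),
      (Fintype.card F = 9 ∨ ((Fintype.card F).Prime ∧ ∃ k : ℕ, Fintype.card F = 2 ^ k + 1 ∨ Fintype.card F = 2 ^ k - 1)) ∧
      Nonempty (G ≃* Matrix.ProjectiveSpecialLinearGroup (Fin 2) F) := by
  by_cases hno : NoOff G
  · obtain ⟨S, J, hSm, hJ, hJ0, hSM, hSE⟩ :=
      exists_strongly_embedded hno (even_card hna) (normalizer_ne_top hna)
    exact Or.inl (of_strongly_embedded hna hC hSm hJ0 hSM (hS J hJ hJ0) hSE)
  · simp only [NoOff, not_forall] at hno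
    obtain ⟨P, T, h, A, hA, hAT, hmax, hAP⟩ := hno
    obtain ⟨a, b, ha, hb, hne, hab, hcent⟩ := four hC hS (no_index_two hna) h hA hAT hmax hAP
    exact Or.inr (of_four hna hC ha hb hne hab hcent)

end Cfsg.Agent.CITSolv
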