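import Mathlib
import Cfsg.Prelude.Def_Solvable
import Cfsg.Agent.Core.PCore

/-!
Groups in which the centraliser of every involution is a 2-group: elementary facts, quotients by normal
2-subgroups, and the structure of the solvable ones with trivial 2-core.
-/

set_option autoImplicit false
set_option linter.style.haveILetI false
set_option linter.unusedSectionVars false

open Subgroup

namespace Cfsg.Agent.CITSolv

variable {G : Type*} [Group G]

/-- every centraliser of an involution is a 2-group -/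
def CIT (G : Type*) [Group G] : Prop :=
  ∀ t : G, orderOf t = 2 → IsPGroup 2 ↥(centralizer ({t} : Set G))

/-- the elements of the subgroup square to one -/
def Elem (A : Subgroup G) : Prop := ∀ a ∈ A, a * a = 1

theorem Elem.inv_eq {A : Subgroup G} (h : Elem A) {a : G} (ha : a ∈ A) : a⁻¹ = a :=
  inv_eq_of_mul_eq_one_right (h a ha)

theorem Elem.comm {A : Subgroup G} (h : Elem A) {a b : G} (ha : a ∈ A) (hb : b ∈ A) : a * b = b * a := by
  have h1 := h.inv_eq (mul_mem ha hb)
  rw [mul_inv_rev, h.inv_eq ha, h.inv_eq hb] at h1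
  exact h1.symm

theorem Elem.isPGroup {A : Subgroup G} (h : Elem A) : IsPGroup 2 A :=
  fun a => ⟨1, Subtype.ext (by rw [pow_one, coe_pow, pow_two]; exact h a a.2)⟩

theorem mul_self_of_order {t : G} (ht : orderOf t = 2) : t * t = 1 := by
  rw [← pow_two, ← ht, pow_orderOf_eq_one]

theorem inv_of_order {t : G} (ht : orderOf t = 2) : t⁻¹ = t :=
  inv_eq_of_mul_eq_one_right (mul_self_of_order ht)

theorem ne_one_of_order {t : G} (ht : orderOf t = 2) : t ≠ 1 := fun e => by
  rw [e, orderOf_one] at ht; omega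

theorem orderOf_two {t : G} (h : t * t = 1) (h1 : t ≠ 1) : orderOf t = 2 :=
  orderOf_eq_prime (by rw [pow_two, h]) h1

theorem CIT.subgroup (h : CIT G) (X : Subgroup G) : CIT X := by
  intro t ht
  have hC := h (t : G) (by rw [orderOf_coe, ht])
  refine IsPGroup.of_injective hC ((X.subtype.comp (centralizer ({t} : Set X)).subtype).codRestrict _ fun c => ?_)
    (fun a b e => Subtype.ext (Subtype.ext (congrArg Subtype.val e :)))
  exact mem_centralizer_singleton_iff.2 (congrArg Subtype.val (mem_centralizer_singleton_iff.1 c.2))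

variable [Finite G]

theorem CIT.eq_one (h : CIT G) {x t : G} (ht : orderOf t = 2) (hc : Commute x t) (ho : Odd (orderOf x)) :
    x = 1 := by
  haveI : Fact (Nat.Prime 2) := ⟨Nat.prime_two⟩
  obtain ⟨k, hk⟩ := (h t ht) ⟨x, mem_centralizer_singleton_iff.2 hc.eq⟩
  have hk' : x ^ 2 ^ k = 1 := congrArg Subtype.val hk
  have hd := orderOf_dvd_of_pow_eq_one hk'
  have h1 : orderOf x = 1 :=
    Nat.eq_one_of_dvd_coprimes ((Nat.coprime_pow_right_iff (Nat.zero_lt_succ k) _ _).2
      (Nat.Coprime.symm (ho.coprime_two_left))) dvd_rfl (hd.trans (pow_dvd_pow 2 k.le_succ))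
  exact orderOf_eq_one_iff.1 h1

theorem exists_pow_order_two {y : G} (hy : y ≠ 1) {k : ℕ} (hk : y ^ 2 ^ k = 1) : ∃ n : ℕ, orderOf (y ^ n) = 2 := by
  haveI : Fact (Nat.Prime 2) := ⟨Nat.prime_two⟩
  have hd : 2 ∣ orderOf y := by
    obtain ⟨i, -, hi⟩ := (Nat.dvd_prime_pow Nat.prime_two).1 (orderOf_dvd_of_pow_eq_one hk)
    rcases i with _ | i
    · exact absurd (orderOf_eq_one_iff.1 (by simpa using hi)) hy
    · exact hi ▸ dvd_pow_self 2 i.succ_ne_zero
  refine ⟨orderOf y / 2, ?_⟩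
  exact orderOf_pow_orderOf_div (orderOf_pos y).ne' hd

theorem CIT.eq_one_of_two (h : CIT G) {x y : G} {k : ℕ} (hk : y ^ 2 ^ k = 1) (hy : y ≠ 1) (hc : Commute x y)
    (ho : Odd (orderOf x)) : x = 1 := by
  obtain ⟨n, hn⟩ := exists_pow_order_two hy hk
  exact h.eq_one hn (hc.pow_right n) ho

theorem CIT.eq_one_of_mem (h : CIT G) {x y : G} {U : Subgroup G} (hU : IsPGroup 2 U) (hyU : y ∈ U) (hy : y ≠ 1)
    (hc : Commute x y) (ho : Odd (orderOf x)) : x = 1 := by
  obtain ⟨k, hk⟩ := hU ⟨y, hyU⟩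
  exact h.eq_one_of_two (congrArg Subtype.val hk : y ^ 2 ^ k = 1) hy hc ho

/-- an involution normalising a subgroup of odd order inverts it -/
theorem CIT.inverts (h : CIT G) {t : G} (ht : orderOf t = 2) {C : Subgroup G} (hC : Odd (Nat.card C))
    (hn : ∀ c ∈ C, t * c * t⁻¹ ∈ C) {c : G} (hc : c ∈ C) : t * c * t⁻¹ = c⁻¹ := by
  let f : C → C := fun a => ⟨(a : G)⁻¹ * (t * a * t⁻¹), mul_mem (inv_mem a.2) (hn a a.2)⟩
  have hf : Function.Injective f := by
    intro a b e
    have e1 : (a : G)⁻¹ * (t * a * t⁻¹) = (b : G)⁻¹ * (t * b * t⁻¹) := congrArg Subtype.val e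
    have e2 : Commute ((b : G) * (a : G)⁻¹) t := by
      show (b : G) * (a : G)⁻¹ * t = t * ((b : G) * (a : G)⁻¹)
      calc (b : G) * (a : G)⁻¹ * t = b * ((a : G)⁻¹ * (t * a * t⁻¹)) * (t * (a : G)⁻¹) := by group
        _ = b * ((b : G)⁻¹ * (t * b * t⁻¹)) * (t * (a : G)⁻¹) := by rw [e1]
        _ = _ := by group
    have h1 : (b : G) * (a : G)⁻¹ = 1 := h.eq_one ht e2 (by
      rw [← Subgroup.orderOf_mk _ (mul_mem b.2 (inv_mem a.2))]
      exact hC.of_dvd_nat (orderOf_dvd_natCard _))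
    exact Subtype.ext (mul_inv_eq_one.1 h1).symm
  obtain ⟨a, ha⟩ := (Finite.injective_iff_surjective.1 hf) ⟨c, hc⟩
  have ha' : (a : G)⁻¹ * (t * a * t⁻¹) = c := congrArg Subtype.val ha
  rw [← ha']
  have ht2 := inv_of_order ht
  have ht1 := mul_self_of_order ht
  calc t * ((a : G)⁻¹ * (t * a * t⁻¹)) * t⁻¹ = t * (a : G)⁻¹ * t * a * ((t * t)⁻¹) := by group
    _ = t⁻¹⁻¹ * (a : G)⁻¹ * t⁻¹ * a := by rw [ht1, inv_one, mul_one, inv_inv, ht2]
    _ = _ := by group

/-- quotients by normal 2-subgroups inherit the property -/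
theorem CIT.quotient (h : CIT G) (P : Subgroup G) [P.Normal] (hP : IsPGroup 2 P) : CIT (G ⧸ P) := by
  classical
  haveI : Fact (Nat.Prime 2) := ⟨Nat.prime_two⟩
  intro ub hub
  refine (IsPGroup.iff_card (p := 2)).2 ⟨_, Nat.eq_prime_pow_of_unique_prime_dvd Nat.card_pos.ne'
    fun {q} hq hqd => ?_⟩
  by_contra hq2
  haveI : Fact q.Prime := ⟨hq⟩
  obtain ⟨xb, hxb⟩ := exists_prime_orderOf_dvd_card' q hqd
  obtain ⟨y, hy⟩ := QuotientGroup.mk'_surjective P (xb : G ⧸ P)
  obtain ⟨u, rfl⟩ := QuotientGroup.mk'_surjective P ub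
  set r := orderOf y / q ^ (orderOf y).factorization q with hr
  set x := y ^ r with hx
  have hqr : ¬ q ∣ r := Nat.not_dvd_ordCompl hq (orderOf_pos y).ne'
  have hxpow : x ^ q ^ (orderOf y).factorization q = 1 := by
    rw [hx, ← pow_mul, hr, Nat.div_mul_cancel (Nat.ordProj_dvd _ q), pow_orderOf_eq_one]
  have hxo : Odd (orderOf x) := by
    obtain ⟨i, -, hi⟩ := (Nat.dvd_prime_pow hq).1 (orderOf_dvd_of_pow_eq_one hxpow)
    rw [hi]
    exact (hq.odd_of_ne_two hq2).pow
  have hximg : QuotientGroup.mk' P x = (xb : G ⧸ P) ^ r := by rw [hx, map_pow, hy]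
  have hxne : x ≠ 1 := by
    intro e
    rw [e, map_one] at hximg
    refine hqr ?_
    rw [← hxb, ← Subgroup.orderOf_coe]
    exact orderOf_dvd_of_pow_eq_one hximg.symm
  have hcomm : QuotientGroup.mk' P x * QuotientGroup.mk' P u = QuotientGroup.mk' P u * QuotientGroup.mk' P x := by
    rw [hximg]
    exact ((show Commute (xb : G ⧸ P) (QuotientGroup.mk' P u) from
      mem_centralizer_singleton_iff.1 xb.2).pow_left r).eq
  have hmem : ∀ p : G, p ∈ P → u⁻¹ * x * (u * p) * x⁻¹ ∈ P := by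
    intro p hp
    rw [← QuotientGroup.eq_one_iff]
    show QuotientGroup.mk' P _ = 1
    have hp1 : QuotientGroup.mk' P p = 1 := (QuotientGroup.eq_one_iff p).2 hp
    rw [map_mul, map_mul, map_mul, map_mul, map_inv, map_inv, hp1, mul_one, mul_assoc _ _ (QuotientGroup.mk' P u),
      hcomm, inv_mul_cancel_left, mul_inv_cancel]
  let f : P → P := fun p => ⟨u⁻¹ * x * (u * p) * x⁻¹, hmem p p.2⟩
  have hf : Function.Injective f := fun a b e => by
    have e1 := congrArg Subtype.val e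
    simp only [f] at e1
    exact Subtype.ext (mul_left_cancel (mul_left_cancel (mul_right_cancel e1)))
  let σ : Equiv.Perm P := Equiv.ofBijective f ⟨hf, Finite.injective_iff_surjective.1 hf⟩
  have hσn : ∀ (n : ℕ) (p : P), (((σ ^ n) p : P) : G) = u⁻¹ * x ^ n * (u * p) * (x ^ n)⁻¹ := by
    intro n
    induction n with
    | zero => intro p; simp
    | succ n ih =>
      intro p
      rw [pow_succ', Equiv.Perm.mul_apply]
      show u⁻¹ * x * (u * ((σ ^ n) p : P)) * x⁻¹ = _
      rw [ih, pow_succ']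
      group
  haveI := Fintype.ofFinite P
  have hnd : ¬ q ∣ Fintype.card P := by
    rw [← Nat.card_eq_fintype_card]
    obtain ⟨k, hk⟩ := IsPGroup.iff_card.1 hP
    rw [hk]
    exact fun hd => hq2 ((Nat.prime_dvd_prime_iff_eq hq Nat.prime_two).1 (hq.dvd_of_dvd_pow hd))
  obtain ⟨p, hp⟩ := Equiv.Perm.exists_fixed_point_of_prime (p := q) (n := (orderOf y).factorization q) hnd
    (σ := σ) (Equiv.ext fun p => Subtype.ext (by rw [hσn, hxpow, Equiv.Perm.one_apply]; group))
  have hfix : u⁻¹ * x * (u * p) * x⁻¹ = (p : G) := congrArg Subtype.val hp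
  have hcw : Commute x (u * p) := by
    show x * (u * p) = u * p * x
    calc x * (u * p) = u * (u⁻¹ * x * (u * p) * x⁻¹) * x := by group
      _ = _ := by rw [hfix]
  have hw1 : u * (p : G) ≠ 1 := by
    intro e
    have := congrArg (QuotientGroup.mk' P) e
    rw [map_mul, map_one, show QuotientGroup.mk' P (p : G) = 1 from (QuotientGroup.eq_one_iff _).2 p.2, mul_one] at this
    exact ne_one_of_order hub this
  have hw2 : (u * (p : G)) ^ 2 ∈ P := by
    rw [← QuotientGroup.eq_one_iff]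
    show QuotientGroup.mk' P _ = 1
    rw [map_pow, map_mul, show QuotientGroup.mk' P (p : G) = 1 from (QuotientGroup.eq_one_iff _).2 p.2, mul_one,
      ← hub, pow_orderOf_eq_one]
  obtain ⟨k, hk⟩ := hP ⟨_, hw2⟩
  exact hxne (h.eq_one_of_two (k := k + 1) (by rw [pow_succ', pow_mul]; exact congrArg Subtype.val hk) hw1 hcw hxo)

/-- the solvable groups with the property and trivial 2-core -/
theorem exists_odd_selfcent {X : Type*} [Group X] [Finite X] (h : CIT X) (hsol : Group.IsSolvable X)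
    (hO : Cfsg.pCore 2 X = ⊥) {t : X} (ht : orderOf t = 2) :
    ∃ C : Subgroup X, C.Normal ∧ Odd (Nat.card C) ∧ C ≠ ⊥ ∧ centralizer (C : Set X) ≤ C ∧
      (∀ u : X, orderOf u = 2 → ∀ c ∈ C, u * c * u⁻¹ = c⁻¹) ∧
      ∀ x : X, ∃ c ∈ C, ∃ w : X, Commute w t ∧ x = c * w := by
  classical
  haveI : Fact (Nat.Prime 2) := ⟨Nat.prime_two⟩
  obtain ⟨A, hAn, hA, hAc⟩ : ∃ A : Subgroup X, A.Normal ∧ A ≠ ⊥ ∧ ∀ a ∈ A, ∀ b ∈ A, a * b = b * a := by
    have hex := hsol.solvable
    obtain ⟨m, hm⟩ : ∃ m, Nat.find hex = m + 1 := by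
      rcases Nat.eq_zero_or_eq_succ_pred (Nat.find hex) with e | e
      · exfalso
        have := Nat.find_spec hex
        rw [e, derivedSeries_zero] at this
        exact ne_one_of_order ht (mem_bot.1 (this ▸ mem_top t))
      · exact ⟨_, e⟩
    refine ⟨derivedSeries X m, derivedSeries_normal X m, fun e => ?_, fun a ha b hb => ?_⟩
    · have := Nat.find_min' hex e
      omega
    · have := Nat.find_spec hex
      rw [hm, derivedSeries_succ] at this
      exact commutatorElement_eq_one_iff_mul_comm.1 (mem_bot.1 (this ▸ commutator_mem_commutator ha hb))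
  haveI := hAn
  have hno : ∀ a ∈ A, orderOf a ≠ 2 := by
    intro a ha hao
    let A2 : Subgroup X :=
      { carrier := {y | y ∈ A ∧ y * y = 1}
        one_mem' := ⟨one_mem A, mul_one 1⟩
        mul_mem' := fun {y z} hy hz => ⟨mul_mem hy.1 hz.1, by
          calc y * z * (y * z) = y * (z * y) * z := by group
            _ = y * (y * z) * z := by rw [hAc z hz.1 y hy.1]
            _ = (y * y) * (z * z) := by group
            _ = 1 := by rw [hy.2, hz.2, mul_one]⟩
        inv_mem' := fun {y} hy => ⟨inv_mem hy.1, by rw [← mul_inv_rev, hy.2, inv_one]⟩ }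
    haveI : A2.Normal := ⟨fun y hy g => ⟨hAn.conj_mem y hy.1 g, by
      calc g * y * g⁻¹ * (g * y * g⁻¹) = g * (y * y) * g⁻¹ := by group
        _ = 1 := by rw [hy.2, mul_one, mul_inv_cancel]⟩⟩
    have h2 : IsPGroup 2 A2 := Elem.isPGroup fun y hy => hy.2
    have hle := Core.le_pCore h2
    rw [hO] at hle
    exact ne_one_of_order hao (mem_bot.1 (hle ⟨ha, mul_self_of_order hao⟩))
  set C := centralizer (A : Set X) with hCdef
  have hAC : A ≤ C := fun a ha => mem_centralizer_iff.2 fun b hb => hAc b hb a ha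
  have hAodd : Odd (Nat.card A) := Nat.odd_iff.2 (by
    by_contra hc
    obtain ⟨a, ha⟩ := exists_prime_orderOf_dvd_card' (G := A) 2 (Nat.dvd_of_mod_eq_zero (by omega))
    exact hno a a.2 (by rw [orderOf_coe, ha]))
  obtain ⟨⟨a, ha⟩, ha1'⟩ := (ne_bot_iff_exists_ne_one).1 hA
  have ha1 : a ≠ 1 := fun e => ha1' (Subtype.ext e)
  have haodd : Odd (orderOf a) := by
    rw [← Subgroup.orderOf_mk a ha]; exact hAodd.of_dvd_nat (orderOf_dvd_natCard _)
  have hCodd : Odd (Nat.card C) := Nat.odd_iff.2 (by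
    by_contra hc
    obtain ⟨c, hc⟩ := exists_prime_orderOf_dvd_card' (G := C) 2 (Nat.dvd_of_mod_eq_zero (by omega))
    exact ha1 (h.eq_one (t := (c : X)) (by rw [orderOf_coe, hc]) ((mem_centralizer_iff.1 c.2 a ha)) haodd))
  haveI hCn : C.Normal := inferInstance
  have hinv : ∀ u : X, orderOf u = 2 → ∀ c ∈ C, u * c * u⁻¹ = c⁻¹ := fun u hu c hc =>
    h.inverts hu hCodd (fun d hd => hCn.conj_mem d hd u) hc
  have hself : centralizer (C : Set X) ≤ C := centralizer_le hAC
  refine ⟨C, hCn, hCodd, fun e => hA (le_bot_iff.1 (e ▸ hAC)), hself, hinv, fun x => ?_⟩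
  have htx : orderOf (x * t * x⁻¹) = 2 := by
    rw [← MulAut.conj_apply, MulEquiv.orderOf_eq, ht]
  have hd : x * t * x⁻¹ * t ∈ C := hself (mem_centralizer_iff.2 fun c hc => by
    have e1 := hinv _ ht c hc
    have e2 := hinv _ htx _ (inv_mem hc)
    rw [inv_inv] at e2
    have e3 : (x * t * x⁻¹ * t) * c * (x * t * x⁻¹ * t)⁻¹ = c := by
      calc (x * t * x⁻¹ * t) * c * (x * t * x⁻¹ * t)⁻¹
          = x * t * x⁻¹ * (t * c * t⁻¹) * (x * t * x⁻¹)⁻¹ := by group
        _ = c := by rw [e1, e2]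
    exact (mul_inv_eq_iff_eq_mul.1 e3).symm)
  obtain ⟨m, hm⟩ := hCodd
  set d := x * t * x⁻¹ * t with hddef
  set j := d ^ (m + 1) with hjdef
  have hjC : j ∈ C := pow_mem hd _
  have hj2 : j * j = d := by
    have hp : d ^ (2 * m + 1) = 1 := by
      rw [← hm]; exact congrArg Subtype.val (pow_card_eq_one' (x := (⟨d, hd⟩ : C)))
    rw [hjdef, ← pow_add, show m + 1 + (m + 1) = 2 * m + 1 + 1 by ring, pow_succ, hp, one_mul]
  refine ⟨j, hjC, j⁻¹ * x, ?_, (mul_inv_cancel_left j x).symm⟩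
  have e1 := hinv t ht _ (inv_mem hjC)
  rw [inv_inv] at e1
  have hxt : x * t * x⁻¹ = d * t := by
    rw [hddef, mul_assoc, mul_assoc, mul_assoc, mul_self_of_order ht, mul_one, ← mul_assoc]
  show j⁻¹ * x * t = t * (j⁻¹ * x)
  calc j⁻¹ * x * t = j⁻¹ * (x * t * x⁻¹) * x := by group
    _ = j⁻¹ * (j * j) * t * x := by rw [hxt, hj2]; group
    _ = (t * j⁻¹ * t⁻¹) * t * x := by rw [e1]; group
    _ = t * (j⁻¹ * x) := by group

/-- commuting involutions of such a group are equal -/
theorem eq_of_commute {X : Type*} [Group X] [Finite X] (h : CIT X) (hsol : Group.IsSolvable X)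
    (hO : Cfsg.pCore 2 X = ⊥) {a b : X} (ha : orderOf a = 2) (hb : orderOf b = 2) (hab : Commute a b) : a = b := by
  obtain ⟨C, hCn, hCodd, -, hself, hinv, -⟩ := exists_odd_selfcent h hsol hO ha
  have hC : a * b ∈ C := hself (mem_centralizer_iff.2 fun c hc => by
    have e1 := hinv b hb c hc
    have e2 := hinv a ha _ (inv_mem hc)
    rw [inv_inv] at e2
    have e3 : (a * b) * c * (a * b)⁻¹ = c := by
      calc (a * b) * c * (a * b)⁻¹ = a * (b * c * b⁻¹) * a⁻¹ := by group
        _ = c := by rw [e1, e2]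
    exact (mul_inv_eq_iff_eq_mul.1 e3).symm)
  have h2 : (a * b) ^ 2 = 1 := by
    rw [hab.mul_pow, pow_two, pow_two, mul_self_of_order ha, mul_self_of_order hb, mul_one]
  have ho : orderOf (a * b) = 1 := by
    rcases (Nat.dvd_prime Nat.prime_two).1 (orderOf_dvd_of_pow_eq_one h2) with e | e
    · exact e
    · exfalso
      have := hCodd.of_dvd_nat (e ▸ Subgroup.orderOf_mk (a * b) hC ▸ orderOf_dvd_natCard (⟨a * b, hC⟩ : C))
      exact absurd this (by decide)
  calc a = a⁻¹ := (inv_of_order ha).symm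
    _ = b := inv_eq_of_mul_eq_one_right (orderOf_eq_one_iff.1 ho)

/-- such a group has a subgroup of index two as soon as it has an involution -/
theorem exists_index_two_of_core {X : Type*} [Group X] [Finite X] (h : CIT X) (hsol : Group.IsSolvable X)
    (hO : Cfsg.pCore 2 X = ⊥) {t : X} (ht : orderOf t = 2) : ∃ N : Subgroup X, N.Normal ∧ N.index = 2 := by
  classical
  haveI : Fact (Nat.Prime 2) := ⟨Nat.prime_two⟩
  obtain ⟨C, hCn, hCodd, -, -, -, hdec⟩ := exists_odd_selfcent h hsol hO ht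
  haveI := hCn
  have hQ : IsPGroup 2 (X ⧸ C) :=
    (h t ht).of_surjective ((QuotientGroup.mk' C).comp (centralizer ({t} : Set X)).subtype) (fun q => by
      obtain ⟨x, rfl⟩ := QuotientGroup.mk'_surjective C q
      obtain ⟨c, hc, w, hw, rfl⟩ := hdec x
      refine ⟨⟨w, mem_centralizer_singleton_iff.2 hw.eq⟩, ?_⟩
      show QuotientGroup.mk' C w = _
      rw [map_mul, show QuotientGroup.mk' C c = 1 from (QuotientGroup.eq_one_iff c).2 hc, one_mul])
  obtain ⟨n, hn⟩ := IsPGroup.iff_card.1 hQ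
  rcases n with _ | n
  · exfalso
    have : C.index = 1 := by rw [Subgroup.index, hn, pow_zero]
    rw [index_eq_one] at this
    rw [this, card_top] at hCodd
    exact absurd (hCodd.of_dvd_nat (ht ▸ orderOf_dvd_natCard t)) (by decide)
  obtain ⟨K, hK⟩ := Sylow.exists_subgroup_card_pow_prime 2 (show 2 ^ n ∣ Nat.card (X ⧸ C) from hn ▸ pow_dvd_pow 2 n.le_succ)
  have hi : (K.comap (QuotientGroup.mk' C)).index = 2 := by
    rw [index_comap_of_surjective _ (QuotientGroup.mk'_surjective C)]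
    have := K.card_mul_index
    rw [hK, hn, pow_succ] at this
    exact mul_left_cancel₀ (by positivity) this
  exact ⟨_, normal_of_index_eq_two hi, hi⟩

end Cfsg.Agent.CITSolv
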