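import Cfsg.Agent.CITSolv.Basic
import Cfsg.Agent.Invol.BaerSuzuki

/-!
Two-locals with their 2-cores.
-/

set_option autoImplicit false
set_option linter.style.haveILetI false
set_option linter.unusedSectionVars false

open Subgroup

namespace Cfsg.Agent.CITSolv

variable {G : Type*} [Group G]

/-- every 2-local subgroup is solvable -/
def SolLoc (G : Type*) [Group G] : Prop :=
  ∀ R : Subgroup G, IsPGroup 2 R → R ≠ ⊥ → Group.IsSolvable ↥(normalizer (R : Set G))

/-- the 2-core of a subgroup, as a subgroup of the ambient group -/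
def core2 (X : Subgroup G) : Subgroup G := (Cfsg.pCore 2 X).map X.subtype

theorem core2_le (X : Subgroup G) : core2 X ≤ X := map_subtype_le _

theorem core2_isPGroup (X : Subgroup G) : IsPGroup 2 (core2 X) := Core.pCore_isPGroup.map _

theorem core2_normal (X : Subgroup G) : X ≤ normalizer (core2 X : Set G) := by
  intro x hx
  rw [mem_normalizer_iff]
  intro y
  constructor
  · rintro ⟨⟨w, hw⟩, hw2, rfl⟩
    exact ⟨_, Core.pCore_normal.conj_mem _ hw2 ⟨x, hx⟩, rfl⟩
  · rintro ⟨⟨w, hw⟩, hw2, e⟩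
    refine ⟨_, Core.pCore_normal.conj_mem _ hw2 ⟨x⁻¹, inv_mem hx⟩, ?_⟩
    show x⁻¹ * w * x⁻¹⁻¹ = y
    rw [show w = x * y * x⁻¹ from e]
    group

theorem le_core2 {N X : Subgroup G} (hN : IsPGroup 2 N) (hle : N ≤ X) (hn : X ≤ normalizer (N : Set G)) :
    N ≤ core2 X := by
  haveI : (N.subgroupOf X).Normal :=
    ⟨fun w hw g => (mem_normalizer_iff.1 (hn g.2) (w : G)).1 hw⟩
  intro y hy
  exact ⟨⟨y, hle hy⟩, Core.le_pCore (N := N.subgroupOf X) hN.comap_subtype hy, rfl⟩

variable [Finite G]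

theorem exists_normalizing {p : ℕ} [Fact p.Prime] {P Q : Subgroup G} (hQ : IsPGroup p Q) (hlt : P < Q) :
    ∃ s ∈ Q, s ∉ P ∧ s ∈ normalizer (P : Set G) := by
  haveI := hQ.isNilpotent
  have hne : P.subgroupOf Q < ⊤ := lt_top_iff_ne_top.2 fun e =>
    hlt.not_ge fun x hx => (e ▸ mem_top (⟨x, hx⟩ : Q) :)
  obtain ⟨⟨s, hsQ⟩, hs, hsP⟩ := SetLike.exists_of_lt (Group.normalizerCondition_of_isNilpotent _ hne)
  refine ⟨s, hsQ, hsP, mem_normalizer_iff.2 fun y => ?_⟩
  constructor
  · intro hy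
    exact (mem_normalizer_iff.1 hs ⟨y, hlt.le hy⟩).1 hy
  · intro hy
    have hyQ : y ∈ Q := by
      have := mul_mem (mul_mem (inv_mem hsQ) (hlt.le hy)) hsQ
      simpa [mul_assoc] using this
    exact (mem_normalizer_iff.1 hs ⟨y, hyQ⟩).2 hy

/-- a 2-local subgroup given by its 2-core, with a Sylow 2-subgroup -/
structure Loc (P T : Subgroup G) : Prop where
  isP : IsPGroup 2 P
  ne_bot : P ≠ ⊥
  core : core2 (normalizer (P : Set G)) = P
  isT : IsPGroup 2 T
  le : T ≤ normalizer (P : Set G)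
  max : ∀ Q : Subgroup G, IsPGroup 2 Q → Q ≤ normalizer (P : Set G) → T ≤ Q → Q = T

variable {P T : Subgroup G}

theorem Loc.le_T (h : Loc P T) : P ≤ T := by
  have := h.max (T ⊔ P) (h.isT.to_sup_of_normal_right' h.isP h.le) (sup_le h.le le_normalizer) le_sup_left
  exact this ▸ le_sup_right

theorem Loc.mem_of_conj (h : Loc P T) {x g : G} (hg : g ∈ normalizer (P : Set G)) (hx : x ∈ P) :
    g * x * g⁻¹ ∈ P :=
  (mem_normalizer_iff.1 hg x).1 hx

/-- normal 2-subgroups of the local lie in its core -/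
theorem Loc.le_core (h : Loc P T) {N : Subgroup G} (hN : IsPGroup 2 N) (hle : N ≤ normalizer (P : Set G))
    (hn : normalizer (P : Set G) ≤ normalizer (N : Set G)) : N ≤ P :=
  (le_core2 hN hle hn).trans h.core.le

theorem Loc.core_subgroupOf (h : Loc P T) :
    Cfsg.pCore 2 ↥(normalizer (P : Set G)) = P.subgroupOf (normalizer (P : Set G)) := by
  refine Subgroup.map_injective (normalizer (P : Set G)).subtype_injective ?_
  rw [subgroupOf, map_comap_eq, range_subtype, inf_eq_right.2 le_normalizer]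
  exact h.core

theorem Loc.quot_data (hC : CIT G) (hS : SolLoc G) (h : Loc P T) :
    CIT (↥(normalizer (P : Set G)) ⧸ Cfsg.pCore 2 ↥(normalizer (P : Set G))) ∧
      Group.IsSolvable (↥(normalizer (P : Set G)) ⧸ Cfsg.pCore 2 ↥(normalizer (P : Set G))) ∧
      Cfsg.pCore 2 (↥(normalizer (P : Set G)) ⧸ Cfsg.pCore 2 ↥(normalizer (P : Set G))) = ⊥ := by
  haveI := hS P h.isP h.ne_bot
  exact ⟨(hC.subgroup _).quotient _ Core.pCore_isPGroup, inferInstance, Core.pCore_quotient_eq_bot⟩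

/-- two commuting involutions outside the core differ by an element of the core -/
theorem Loc.mul_mem_of_commute (hC : CIT G) (hS : SolLoc G) (h : Loc P T) {a b : G}
    (ha : a ∈ normalizer (P : Set G)) (hb : b ∈ normalizer (P : Set G)) (ha2 : a * a = 1) (hb2 : b * b = 1)
    (haP : a ∉ P) (hbP : b ∉ P) (hab : a * b = b * a) : a * b ∈ P := by
  obtain ⟨h1, h2, h3⟩ := h.quot_data hC hS
  have hcs := h.core_subgroupOf
  set K := Cfsg.pCore 2 ↥(normalizer (P : Set G)) with hK
  have hne : ∀ {c : G} (hc : c ∈ normalizer (P : Set G)), c ∉ P → QuotientGroup.mk' K ⟨c, hc⟩ ≠ 1 := by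
    intro c hc hcP e
    have := (QuotientGroup.eq_one_iff _).1 e
    rw [hcs] at this
    exact hcP this
  have hord : ∀ {c : G} (hc : c ∈ normalizer (P : Set G)), c ∉ P → c * c = 1 →
      orderOf (QuotientGroup.mk' K ⟨c, hc⟩) = 2 := by
    intro c hc hcP hc2
    refine orderOf_two ?_ (hne hc hcP)
    rw [← map_mul, show (⟨c, hc⟩ : ↥(normalizer (P : Set G))) * ⟨c, hc⟩ = 1 from Subtype.ext hc2, map_one]
  have e := eq_of_commute h1 h2 h3 (hord ha haP ha2) (hord hb hbP hb2)
    ((show Commute (⟨a, ha⟩ : ↥(normalizer (P : Set G))) ⟨b, hb⟩ from Subtype.ext hab).map (QuotientGroup.mk' K))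
  have e2 : QuotientGroup.mk' K (⟨a, ha⟩ * ⟨b, hb⟩) = 1 := by
    rw [map_mul, e, ← map_mul, show (⟨b, hb⟩ : ↥(normalizer (P : Set G))) * ⟨b, hb⟩ = 1 from Subtype.ext hb2,
      map_one]
  have := (QuotientGroup.eq_one_iff _).1 e2
  rw [hcs] at this
  exact this

/-- an involution of the local outside the core inverts a non-identity element of odd order -/
theorem Loc.exists_inverted (h : Loc P T) {a : G} (ha : a ∈ normalizer (P : Set G)) (hao : orderOf a = 2)
    (haP : a ∉ P) :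
    ∃ k ∈ normalizer (P : Set G), k ≠ 1 ∧ Odd (orderOf k) ∧ a * k * a⁻¹ = k⁻¹ := by
  haveI : Fact (Nat.Prime 2) := ⟨Nat.prime_two⟩
  obtain ⟨-, k, hk1, hko, hk, -⟩ := Invol.exists_inverted_odd (t := (⟨a, ha⟩ : ↥(normalizer (P : Set G))))
    (by rw [Subgroup.orderOf_mk, hao]) (fun N hN hN2 hmem => haP (by
      have := Core.le_pCore (hN := hN) hN2 hmem
      rw [h.core_subgroupOf] at this
      exact this))
  exact ⟨k, k.2, fun e => hk1 (Subtype.ext e), by rwa [Subgroup.orderOf_coe], congrArg Subtype.val hk⟩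

end Cfsg.Agent.CITSolv
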