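import Cfsg.Agent.CITSolv.Triple
import Cfsg.Agent.CITSolv.Local
import Cfsg.Agent.Core.Solvable
import Cfsg.Agent.TwoTransfer.Basic

/-!
An elementary subgroup of largest order of a local Sylow subgroup that is not contained in the core gives
a self-centralising four-group.
-/

set_option autoImplicit false
set_option linter.style.haveILetI false
set_option linter.unusedSectionVars false

open Subgroup

namespace Cfsg.Agent.CITSolv

variable {G : Type*} [Group G]

theorem Elem.mono {A B : Subgroup G} (h : Elem A) (hle : B ≤ A) : Elem B := fun b hb => h b (hle hb)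

theorem Elem.sup {A B : Subgroup G} (hA : Elem A) (hB : Elem B)
    (hc : ∀ x ∈ A, ∀ y ∈ B, x * y = y * x) : Elem (A ⊔ B) := by
  intro g hg
  rw [← SetLike.mem_coe, coe_mul_of_left_le_normalizer_right A B (fun x hx => mem_normalizer_iff.2 fun y => ?_)] at hg
  · obtain ⟨x, hx, y, hy, rfl⟩ := hg
    calc x * y * (x * y) = x * (y * x) * y := by group
      _ = (x * x) * (y * y) := by rw [← hc x hx y hy]; group
      _ = 1 := by rw [hA x hx, hB y hy, mul_one]
  · constructor
    · intro hy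
      rwa [hc x hx y hy, mul_inv_cancel_right]
    · intro hy
      have h1 : y = x⁻¹ * (x * y * x⁻¹) * x := by group
      rw [h1, hc x⁻¹ (inv_mem hx) _ hy, inv_mul_cancel_right]
      exact hy

theorem Elem.zpowers {x : G} (h : x * x = 1) : Elem (zpowers x) := by
  rintro y ⟨n, rfl⟩
  show x ^ n * x ^ n = 1
  rw [← (Commute.refl x).mul_zpow, h, one_zpow]

variable [Finite G] {P T : Subgroup G}

theorem Loc.card_le_double (hC : CIT G) (hS : SolLoc G) (h : Loc P T) {A : Subgroup G} (hA : Elem A)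
    (hAT : A ≤ T) {a : G} (ha : a ∈ A) (haP : a ∉ P) : Nat.card A ≤ 2 * Nat.card ↥(A ⊓ P) := by
  classical
  have hm : ∀ x : A, (x : G) ∉ P → (x : G) * a ∈ A ⊓ P := fun x hx =>
    ⟨mul_mem x.2 ha, h.mul_mem_of_commute hC hS (h.le (hAT x.2)) (h.le (hAT ha)) (hA x x.2) (hA a ha) hx haP
      (hA.comm x.2 ha)⟩
  let f : A → ↥(A ⊓ P) × Bool := fun x =>
    if hx : (x : G) ∈ P then (⟨x, x.2, hx⟩, false) else (⟨x * a, hm x hx⟩, true)
  have hf : Function.Injective f := by
    intro x y e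
    simp only [f] at e
    by_cases hx : (x : G) ∈ P <;> by_cases hy : (y : G) ∈ P
    · rw [dif_pos hx, dif_pos hy] at e
      exact Subtype.ext (congrArg (fun q : ↥(A ⊓ P) × Bool => ((q.1 : ↥(A ⊓ P)) : G)) e :)
    · rw [dif_pos hx, dif_neg hy] at e
      exact absurd (congrArg Prod.snd e) Bool.false_ne_true
    · rw [dif_neg hx, dif_pos hy] at e
      exact absurd (congrArg Prod.snd e).symm Bool.false_ne_true
    · rw [dif_neg hx, dif_neg hy] at e
      exact Subtype.ext (mul_right_cancel (congrArg (fun q : ↥(A ⊓ P) × Bool => ((q.1 : ↥(A ⊓ P)) : G)) e :))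
  calc Nat.card A ≤ Nat.card (↥(A ⊓ P) × Bool) := Nat.card_le_card_of_injective f hf
    _ = _ := by rw [Nat.card_prod, Nat.card_eq_fintype_card (α := Bool), Fintype.card_bool, mul_comm]

/-- doubling an elementary subgroup fixed by an inverting element -/
theorem Fpf.doubling {k u : G} (h : Fpf P k) (hinv : u * k * u⁻¹ = k⁻¹) {B : Subgroup G} (hB : Elem B)
    (hBP : B ≤ P) (hu : ∀ y ∈ B, Commute u y) :
    ∃ E : Subgroup G, Elem E ∧ E ≤ P ∧ Nat.card B * Nat.card B ≤ Nat.card E := by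
  set B' := B.map (MulAut.conj k).toMonoidHom with hB'
  have hmem : ∀ z ∈ B', ∃ y ∈ B, z = k * y * k⁻¹ := by
    rintro z ⟨y, hy, rfl⟩
    exact ⟨y, hy, rfl⟩
  have hBk : Elem B' := by
    intro z hz
    obtain ⟨y, hy, rfl⟩ := hmem z hz
    rw [show k * y * k⁻¹ * (k * y * k⁻¹) = k * (y * y) * k⁻¹ by group, hB y hy]
    group
  refine ⟨B ⊔ B', hB.sup hBk ?_, sup_le hBP ?_, ?_⟩
  · intro x hx z hz
    obtain ⟨y, hy, rfl⟩ := hmem z hz
    exact h.comm_of_comm (hBP hy) (hBP hx) (hB.comm hy hx)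
  · intro z hz
    obtain ⟨y, hy, rfl⟩ := hmem z hz
    exact h.conj y (hBP hy)
  · let f : B × B → ↥(B ⊔ B') := fun p =>
      ⟨p.1 * (k * p.2 * k⁻¹), mul_mem (mem_sup_left p.1.2) (mem_sup_right ⟨p.2, p.2.2, rfl⟩)⟩
    have hf : Function.Injective f := by
      rintro ⟨x, y⟩ ⟨x', y'⟩ e
      have e1 : (x : G) * (k * y * k⁻¹) = x' * (k * y' * k⁻¹) := congrArg Subtype.val e
      have e2 : k * ((y' : G) * (y : G)⁻¹) * k⁻¹ = (x' : G)⁻¹ * x := by
        calc k * ((y' : G) * (y : G)⁻¹) * k⁻¹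
            = (x' : G)⁻¹ * (x' * (k * y' * k⁻¹)) * (k * y * k⁻¹)⁻¹ := by group
          _ = _ := by rw [← e1]; group
      have hd : (y' : G) * (y : G)⁻¹ = 1 := by
        refine h.inter hinv (mul_mem (hBP y'.2) (inv_mem (hBP y.2))) (hu _ (mul_mem y'.2 (inv_mem y.2))) ?_
        rw [e2]
        exact hu _ (mul_mem (inv_mem x'.2) x.2)
      rw [hd, mul_one, mul_inv_cancel] at e2
      exact Prod.ext (Subtype.ext (inv_mul_eq_one.1 e2.symm).symm) (Subtype.ext (mul_inv_eq_one.1 hd).symm)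
    have := Nat.card_le_card_of_injective f hf
    rwa [Nat.card_prod] at this

/-- the elements of order at most two of the centre of a subgroup -/
def omegaCenter (P : Subgroup G) : Subgroup G where
  carrier := {y | y ∈ P ∧ (∀ x ∈ P, x * y = y * x) ∧ y * y = 1}
  one_mem' := ⟨one_mem P, fun x _ => by rw [mul_one, one_mul], mul_one 1⟩
  mul_mem' := fun {y z} hy hz => ⟨mul_mem hy.1 hz.1,
    fun x hx => by rw [← mul_assoc, hy.2.1 x hx, mul_assoc, hz.2.1 x hx, ← mul_assoc], by
      calc y * z * (y * z) = y * (z * y) * z := by group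
        _ = (y * y) * (z * z) := by rw [hy.2.1 z hz.1]; group
        _ = 1 := by rw [hy.2.2, hz.2.2, mul_one]⟩
  inv_mem' := fun {y} hy => by
    rw [inv_eq_of_mul_eq_one_right hy.2.2]; exact hy

theorem omegaCenter_ne_bot (hP : IsPGroup 2 P) (hne : P ≠ ⊥) : omegaCenter P ≠ ⊥ := by
  haveI : Fact (Nat.Prime 2) := ⟨Nat.prime_two⟩
  haveI : Nontrivial P := P.nontrivial_iff_ne_bot.2 hne
  haveI := hP.center_nontrivial
  obtain ⟨c, hc⟩ := exists_ne (1 : center P)
  obtain ⟨k, hk⟩ := hP (c : P)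
  obtain ⟨n, hn⟩ := exists_pow_order_two (fun e => hc (Subtype.ext e)) hk
  intro e
  have hmem : (((c : P) ^ n : P) : G) ∈ omegaCenter P := by
    refine ⟨((c : P) ^ n).2, fun x hx => congrArg Subtype.val (mem_center_iff.1 (pow_mem c.2 n) ⟨x, hx⟩),
      congrArg Subtype.val (mul_self_of_order hn)⟩
  rw [e, mem_bot] at hmem
  exact ne_one_of_order hn (Subtype.ext hmem)

/-- the offending case -/
theorem four (hC : CIT G) (hS : SolLoc G) (hI : ∀ N : Subgroup G, N.Normal → N.index ≠ 2)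
    (h : Loc P T) {A : Subgroup G} (hA : Elem A) (hAT : A ≤ T)
    (hmax : ∀ B : Subgroup G, Elem B → B ≤ T → Nat.card B ≤ Nat.card A) (hAP : ¬ A ≤ P) :
    ∃ a b : G, orderOf a = 2 ∧ orderOf b = 2 ∧ a ≠ b ∧ a * b = b * a ∧
      ∀ g : G, Commute g a → Commute g b → g = 1 ∨ g = a ∨ g = b ∨ g = a * b := by
  classical
  haveI : Fact (Nat.Prime 2) := ⟨Nat.prime_two⟩
  obtain ⟨a, haA, haP⟩ := Set.not_subset.1 hAP
  have ha2 : a * a = 1 := hA a haA
  have hao : orderOf a = 2 := orderOf_two ha2 fun e => haP (e ▸ one_mem P)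
  have hai : a⁻¹ = a := hA.inv_eq haA
  have haT : a ∈ T := hAT haA
  have haX := h.le haT
  obtain ⟨k, hkX, hk1, hko, hkinv⟩ := h.exists_inverted haX hao haP
  have hfix : ∀ y ∈ P, Commute k y → y = 1 := fun y hy hc => by
    by_contra hy1
    exact hk1 (hC.eq_one_of_mem h.isP hy hy1 hc hko)
  have hksq : ∀ y : G, Commute (k * k) y → Commute k y := by
    intro y hy
    obtain ⟨m, hm⟩ := hko
    have e : k = (k * k) ^ (m + 1) := by
      rw [← pow_two, ← pow_mul, show 2 * (m + 1) = orderOf k + 1 by omega, pow_succ, pow_orderOf_eq_one, one_mul]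
    rw [e]
    exact hy.pow_left _
  set V := omegaCenter P with hV
  have hVP : V ≤ P := fun y hy => hy.1
  have hVel : Elem V := fun y hy => hy.2.2
  have hVconj : ∀ g ∈ normalizer (P : Set G), ∀ y ∈ V, g * y * g⁻¹ ∈ V := by
    intro g hg y hy
    refine ⟨h.mem_of_conj hg hy.1, fun x hx => ?_, ?_⟩
    · have := hy.2.1 _ (h.mem_of_conj (inv_mem hg) hx)
      calc x * (g * y * g⁻¹) = g * (g⁻¹ * x * g⁻¹⁻¹ * y) * g⁻¹ := by group
        _ = _ := by rw [this]; group
    · rw [show g * y * g⁻¹ * (g * y * g⁻¹) = g * (y * y) * g⁻¹ by group, hy.2.2]; group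
  -- the elements of `V` fixed by `a`
  set F := V ⊓ centralizer ({a} : Set G) with hF
  have hFa : ∀ y ∈ F, Commute a y := fun y hy => (mem_centralizer_singleton_iff.1 hy.2).symm
  set B := A ⊓ P with hB
  have hBa : ∀ y ∈ B, Commute a y := fun y hy => hA.comm haA hy.1
  have hAB : Nat.card A ≤ 2 * Nat.card B := h.card_le_double hC hS hA hAT haA haP
  have hVB : ∀ x ∈ V, ∀ y ∈ B, x * y = y * x := fun x hx y hy => (hx.2.1 y hy.2).symm
  have hVF : Nat.card V ≤ 2 * Nat.card F := by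
    have h1 := hmax (V ⊔ B) (hVel.sup (hA.mono inf_le_left) hVB)
      (sup_le (hVP.trans h.le_T) (inf_le_left.trans hAT))
    have h2 : Nat.card B * B.relIndex (V ⊔ B) = Nat.card ↥(V ⊔ B) := by
      rw [← relIndex_bot_left B, relIndex_mul_relIndex _ _ _ bot_le le_sup_right, relIndex_bot_left]
    have h3 : B.relIndex (V ⊔ B) ≤ 2 := by
      have : Nat.card B * B.relIndex (V ⊔ B) ≤ Nat.card B * 2 := by omega
      exact Nat.le_of_mul_le_mul_left this Nat.card_pos
    have h4 : B.relIndex V ≤ 2 :=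
      (relIndex_le_of_le_right le_sup_left (by
        haveI := isFiniteRelIndex_of_finiteIndex (H := B) (K := V ⊔ B)
        exact relIndex_ne_zero)).trans h3
    have h5 : Nat.card V = Nat.card ↥(B ⊓ V) * B.relIndex V := by
      rw [← relIndex_bot_left (B ⊓ V), ← inf_relIndex_right B V,
        relIndex_mul_relIndex _ _ _ bot_le inf_le_right, relIndex_bot_left]
    have h6 : Nat.card ↥(B ⊓ V) ≤ Nat.card F := card_le_of_le fun y hy =>
      ⟨hy.2, mem_centralizer_singleton_iff.2 (hBa y hy.1).symm⟩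
    rw [h5]
    calc Nat.card ↥(B ⊓ V) * B.relIndex V ≤ Nat.card F * 2 := Nat.mul_le_mul h6 h4
      _ = _ := mul_comm _ _
  have hFF : Nat.card F * Nat.card F ≤ Nat.card V := by
    let f : F × F → V := fun p => ⟨p.1 * (k * p.2 * k⁻¹), mul_mem p.1.2.1 (hVconj k hkX _ p.2.2.1)⟩
    have hf : Function.Injective f := by
      rintro ⟨x, y⟩ ⟨x', y'⟩ e
      have e1 : (x : G) * (k * y * k⁻¹) = x' * (k * y' * k⁻¹) := congrArg Subtype.val e
      have e2 : k * ((y' : G) * (y : G)⁻¹) * k⁻¹ = (x' : G)⁻¹ * x := by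
        calc k * ((y' : G) * (y : G)⁻¹) * k⁻¹
            = (x' : G)⁻¹ * (x' * (k * y' * k⁻¹)) * (k * y * k⁻¹)⁻¹ := by group
          _ = _ := by rw [← e1]; group
      set w := (y' : G) * (y : G)⁻¹ with hw
      have hwF : w ∈ F := mul_mem y'.2 (inv_mem y.2)
      have hd : w = 1 := by
        refine hfix w (hVP hwF.1) (hksq w ?_)
        have h1 : a * (k * w * k⁻¹) * a⁻¹ = k * w * k⁻¹ := by
          rw [(hFa _ (e2 ▸ mul_mem (inv_mem x'.2) x.2)).eq, mul_inv_cancel_right]
        have h2 : a * (k * w * k⁻¹) * a⁻¹ = k⁻¹ * w * k := by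
          calc a * (k * w * k⁻¹) * a⁻¹ = (a * k * a⁻¹) * (a * w * a⁻¹) * (a * k * a⁻¹)⁻¹ := by group
            _ = _ := by rw [hkinv, (hFa w hwF).eq, mul_inv_cancel_right, inv_inv]
        show k * k * w = w * (k * k)
        calc k * k * w = k * (k * w * k⁻¹) * k := by group
          _ = k * (k⁻¹ * w * k) * k := by rw [← h1, h2]
          _ = _ := by group
      rw [hd, mul_one, mul_inv_cancel] at e2
      exact Prod.ext (Subtype.ext (inv_mul_eq_one.1 e2.symm).symm) (Subtype.ext (mul_inv_eq_one.1 hd).symm)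
    have := Nat.card_le_card_of_injective f hf
    rwa [Nat.card_prod] at this
  have hF2 : Nat.card F ≤ 2 :=
    Nat.le_of_mul_le_mul_right (hFF.trans hVF) Nat.card_pos
  -- the orbit of `k`
  have hfour : ∀ v ∈ V, v ≠ 1 → ({1, v, k * v * k⁻¹, k * k * v * (k * k)⁻¹} : Set G) ⊆ V ∧
      ({1, v, k * v * k⁻¹, k * k * v * (k * k)⁻¹} : Set G).ncard = 4 := by
    intro v hv hv1
    have e1 : k * v * k⁻¹ ≠ v := fun e => hv1 (hfix v (hVP hv) (mul_inv_eq_iff_eq_mul.1 e))
    have e2 : k * k * v * (k * k)⁻¹ ≠ v := fun e =>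
      hv1 (hfix v (hVP hv) (hksq v (mul_inv_eq_iff_eq_mul.1 e)))
    have e3 : k * k * v * (k * k)⁻¹ ≠ k * v * k⁻¹ := fun e => e1 (by
      calc k * v * k⁻¹ = k⁻¹ * (k * k * v * (k * k)⁻¹) * k := by group
        _ = v := by rw [e]; group)
    have e4 : k * v * k⁻¹ ≠ 1 := fun e => hv1 (conj_eq_one_iff.1 e)
    have e5 : k * k * v * (k * k)⁻¹ ≠ 1 := fun e => hv1 (conj_eq_one_iff.1 e)
    refine ⟨?_, ?_⟩
    · rintro y (rfl | rfl | rfl | rfl)
      · exact one_mem V
      · exact hv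
      · exact hVconj k hkX _ hv
      · exact hVconj _ (mul_mem hkX hkX) _ hv
    · rw [Set.ncard_insert_of_notMem (by
          simp only [Set.mem_insert_iff, Set.mem_singleton_iff, not_or]
          exact ⟨hv1.symm, e4.symm, e5.symm⟩),
        Set.ncard_insert_of_notMem (by
          simp only [Set.mem_insert_iff, Set.mem_singleton_iff, not_or]
          exact ⟨e1.symm, e2.symm⟩), Set.ncard_pair e3.symm]
  have horb : ∀ v ∈ V, v ≠ 1 → ∀ y ∈ V, y = 1 ∨ y = v ∨ y = k * v * k⁻¹ ∨ y = k * k * v * (k * k)⁻¹ := by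
    intro v hv hv1
    obtain ⟨hsub, hcard⟩ := hfour v hv hv1
    have heq := Set.eq_of_subset_of_ncard_le hsub (by
      rw [hcard, ← Nat.card_coe_set_eq]
      show Nat.card V ≤ 4
      omega) (Set.toFinite _)
    intro y hy
    rw [← SetLike.mem_coe, ← heq] at hy
    simpa using hy
  obtain ⟨⟨v₀, hv₀⟩, hv₀1'⟩ := (ne_bot_iff_exists_ne_one).1 (omegaCenter_ne_bot h.isP h.ne_bot)
  have hv₀1 : v₀ ≠ 1 := fun e => hv₀1' (Subtype.ext e)
  have hk3 : Fpf P k := by
    refine ⟨fun x hx => h.mem_of_conj hkX hx, ?_, hfix⟩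
    have hc : k * (k * k * v₀ * (k * k)⁻¹) * k⁻¹ = v₀ := by
      have hm := hVconj k hkX _ (hVconj _ (mul_mem hkX hkX) _ hv₀)
      rcases horb v₀ hv₀ hv₀1 _ hm with e | e | e | e
      · exact absurd (conj_eq_one_iff.1 (conj_eq_one_iff.1 e)) hv₀1
      · exact e
      · exact absurd (hfix v₀ (hVP hv₀) (hksq v₀ (mul_inv_eq_iff_eq_mul.1 (by
          calc k * k * v₀ * (k * k)⁻¹ = k⁻¹ * (k * (k * k * v₀ * (k * k)⁻¹) * k⁻¹) * k := by group
            _ = v₀ := by rw [e]; group)))) hv₀1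
      · exact absurd (hfix v₀ (hVP hv₀) (mul_inv_eq_iff_eq_mul.1 (by
          calc k * v₀ * k⁻¹ = (k * k)⁻¹ * (k * (k * k * v₀ * (k * k)⁻¹) * k⁻¹) * (k * k) := by group
            _ = v₀ := by rw [e]; group))) hv₀1
    refine hC.eq_one_of_mem h.isP (hVP hv₀) hv₀1 (mul_inv_eq_iff_eq_mul.1 ?_) ?_
    · calc k * k * k * v₀ * (k * k * k)⁻¹ = k * (k * k * v₀ * (k * k)⁻¹) * k⁻¹ := by group
        _ = v₀ := hc
    · refine hko.of_dvd_nat ?_
      rw [show k * k * k = k ^ 3 by rw [pow_succ, pow_two]]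
      exact orderOf_pow_dvd 3
  -- every elementary subgroup has order at most four
  have hA4 : Nat.card A ≤ 4 := by
    obtain ⟨E, hE, hEP, hcE⟩ := hk3.doubling hkinv (B := B) (hA.mono inf_le_left) inf_le_right hBa
    have h1 := hmax E hE (hEP.trans h.le_T)
    have h2 : Nat.card B ≤ 2 :=
      Nat.le_of_mul_le_mul_right (hcE.trans (h1.trans hAB)) Nat.card_pos
    omega
  have hinvP : ∀ y ∈ P, y * y = 1 → y ∈ V := by
    intro y hy hy2
    have h1 := hmax (V ⊔ zpowers y) (hVel.sup (Elem.zpowers hy2) fun x hx w hw => by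
      have hw' : w ∈ P := (zpowers_le.2 hy) hw
      exact (hx.2.1 w hw').symm) (sup_le (hVP.trans h.le_T) ((zpowers_le.2 hy).trans h.le_T))
    have hVc : 4 ≤ Nat.card V := by
      obtain ⟨hsub, hcard⟩ := hfour v₀ hv₀ hv₀1
      rw [← hcard]
      exact (Set.ncard_le_ncard hsub).trans (Nat.card_coe_set_eq (V : Set G)).ge
    have heq : V = V ⊔ zpowers y := eq_of_le_of_card_ge le_sup_left (by omega)
    rw [heq]
    exact mem_sup_right (mem_zpowers y)
  -- the central involution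
  obtain ⟨z, hzV, hz1, hzT⟩ : ∃ z ∈ V, z ≠ 1 ∧ ∀ t ∈ T, t * z = z * t := by
    haveI := h.isT.isNilpotent
    haveI : (V.subgroupOf T).Normal := ⟨fun w hw t => hVconj t (h.le t.2) w hw⟩
    have hne : V.subgroupOf T ≠ ⊥ := fun e => hv₀1 (by
      have := e ▸ (show (⟨v₀, h.le_T (hVP hv₀)⟩ : T) ∈ V.subgroupOf T from hv₀)
      exact congrArg Subtype.val (mem_bot.1 this))
    obtain ⟨⟨w, hw⟩, hw1⟩ := (ne_bot_iff_exists_ne_one).1 (Core.inf_center_ne_bot hne)
    exact ⟨(w : G), hw.1, fun e => hw1 (Subtype.ext (Subtype.ext e)),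
      fun t ht => congrArg Subtype.val (mem_center_iff.1 hw.2 ⟨t, ht⟩)⟩
  have hzF : z ∈ F := ⟨hzV, mem_centralizer_singleton_iff.2 (hzT a haT).symm⟩
  have hFz : ∀ y ∈ F, y = 1 ∨ y = z := by
    intro y hy
    by_contra! hne
    have : ({1, z, y} : Set G).ncard ≤ (F : Set G).ncard := Set.ncard_le_ncard (by
      rintro w (rfl | rfl | rfl)
      · exact one_mem F
      · exact hzF
      · exact hy)
    rw [Set.ncard_insert_of_notMem (by simp [hz1.symm, hne.1.symm]), Set.ncard_pair hne.2.symm,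
      ← Nat.card_coe_set_eq] at this
    exact absurd (this.trans hF2) (by norm_num)
  obtain ⟨v, hv, hvF⟩ : ∃ v ∈ V, v ∉ F := by
    by_contra! hall
    rcases hFz _ (hall _ (hVconj k hkX z hzV)) with e | e
    · exact hz1 (conj_eq_one_iff.1 e)
    · exact hz1 (hfix z (hVP hzV) (mul_inv_eq_iff_eq_mul.1 e))
  have hv1 : v ≠ 1 := fun e => hvF (e ▸ one_mem F)
  have hV4 : ∀ y ∈ V, y = 1 ∨ y = z ∨ y = v ∨ y = z * v := by
    intro y hy
    have hsub : ({1, z, v, z * v} : Set G) ⊆ V := by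
      rintro w (rfl | rfl | rfl | rfl)
      · exact one_mem V
      · exact hzV
      · exact hv
      · exact mul_mem hzV hv
    have hcard : ({1, z, v, z * v} : Set G).ncard = 4 := by
      have e1 : z ≠ v := fun e => hvF (e ▸ hzF)
      have e2 : (1 : G) ≠ z * v := fun e => e1 (by rw [← hVel.inv_eq hzV]; exact inv_eq_of_mul_eq_one_right e.symm)
      rw [Set.ncard_insert_of_notMem (by simp [hz1.symm, hv1.symm, e2]),
        Set.ncard_insert_of_notMem (by simp [e1, hv1]), Set.ncard_pair (by simp [hz1])]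
    have heq := Set.eq_of_subset_of_ncard_le hsub (by
      rw [hcard, ← Nat.card_coe_set_eq]
      show Nat.card V ≤ 4
      omega) (Set.toFinite _)
    rw [← SetLike.mem_coe, ← heq] at hy
    simpa using hy
  -- elements of the local centralising `V`
  have hCX : ∀ g ∈ normalizer (P : Set G), (∀ y ∈ V, g * y = y * g) → g ∈ P := by
    intro g hg hgc
    set Q := normalizer (P : Set G) ⊓ centralizer (V : Set G) with hQ
    have hQ2 : IsPGroup 2 Q := (hC z (orderOf_two (hVel z hzV) hz1)).to_le fun q hq =>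
      mem_centralizer_singleton_iff.2 ((mem_centralizer_iff.1 hq.2 z hzV).symm)
    refine h.le_core hQ2 inf_le_left (fun x hx => ?_) ⟨hg, mem_centralizer_iff.2 fun y hy => (hgc y hy).symm⟩
    refine Invol.mem_normalizer_of_conj_le ?_
    rintro q ⟨w, hw, rfl⟩
    show x * w * x⁻¹ ∈ Q
    refine mem_inf.2 ⟨mul_mem (mul_mem hx hw.1) (inv_mem hx), mem_centralizer_iff.2 fun y hy => ?_⟩
    have := mem_centralizer_iff.1 hw.2 _ (hVconj x⁻¹ (inv_mem hx) y hy)
    calc y * (x * w * x⁻¹) = x * (x⁻¹ * y * x⁻¹⁻¹ * w) * x⁻¹ := by group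
      _ = _ := by rw [this]; group
  have haT' : ∀ t ∈ T, t ∉ P → a * t ∈ P := by
    intro t ht htP
    have hmove : ∀ s ∈ T, s ∉ P → s * v * s⁻¹ = z * v := by
      intro s hs hsP
      have hsz : s * z * s⁻¹ = z := by rw [hzT s hs, mul_inv_cancel_right]
      rcases hV4 _ (hVconj s (h.le hs) v hv) with e | e | e | e
      · exact absurd (conj_eq_one_iff.1 e) hv1
      · exact absurd (mul_left_cancel (mul_right_cancel (e.trans hsz.symm))) fun e' => hvF (e' ▸ hzF)
      · refine absurd (hCX s (h.le hs) fun y hy => ?_) hsP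
        have e' : s * v = v * s := mul_inv_eq_iff_eq_mul.1 e
        rcases hV4 y hy with rfl | rfl | rfl | rfl
        · simp
        · exact hzT s hs
        · exact e'
        · rw [← mul_assoc, hzT s hs, mul_assoc, e', ← mul_assoc]
      · exact e
    refine hCX _ (mul_mem haX (h.le ht)) fun y hy => ?_
    have e1 : a * t * v * (a * t)⁻¹ = v := by
      calc a * t * v * (a * t)⁻¹ = a * (t * v * t⁻¹) * a⁻¹ := by group
        _ = a⁻¹ * (a * v * a⁻¹) * a⁻¹⁻¹ := by rw [hmove t ht htP, ← hmove a haT haP, inv_inv, hai]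
        _ = v := by group
    have e2 : a * t * v = v * (a * t) := mul_inv_eq_iff_eq_mul.1 e1
    have e3 : a * t * z = z * (a * t) := hzT _ (mul_mem haT ht)
    rcases hV4 y hy with rfl | rfl | rfl | rfl
    · simp
    · exact e3
    · exact e2
    · rw [← mul_assoc, e3, mul_assoc, e2, ← mul_assoc]
  have hsq : ∀ r ∈ T, r * r ∈ P := by
    intro r hr
    by_cases hrP : r ∈ P
    · exact mul_mem hrP hrP
    · have h1 := haT' r hr hrP
      have h2 := h.mem_of_conj haX h1
      have e : r * r = a * (a * r) * a⁻¹ * (a * r) := by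
        rw [hai]
        calc r * r = (a * a) * r * (a * a) * r := by rw [ha2, one_mul, mul_one]
          _ = _ := by group
      rw [e]
      exact mul_mem h2 h1
  -- the case of an elementary core
  by_cases hPel : ∀ y ∈ P, y * y = 1
  · refine ⟨z, v, orderOf_two (hVel z hzV) hz1, orderOf_two (hVel v hv) hv1, fun e => hvF (e ▸ hzF),
      hVel.comm hzV hv, fun g hgz hgv => ?_⟩
    have hPV : P ≤ V := fun y hy => hinvP y hy (hPel y hy)
    have hgc : ∀ y ∈ V, g * y = y * g := fun y hy => by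
      rcases hV4 y hy with rfl | rfl | rfl | rfl
      · simp
      · exact hgz
      · exact hgv
      · exact hgz.mul_right hgv
    have hgN : g ∈ normalizer (P : Set G) := by
      refine Invol.mem_normalizer_of_conj_le ?_
      rintro q ⟨w, hw, rfl⟩
      show g * w * g⁻¹ ∈ P
      rw [hgc w (hPV hw), mul_inv_cancel_right]
      exact hw
    exact hV4 g (hPV (hCX g hgN hgc))
  push Not at hPel
  obtain ⟨y₁, hy₁, hy₁'⟩ := hPel
  -- every non-identity element of `V` is a square in the core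
  have hroot : ∀ w ∈ V, w ≠ 1 → ∃ r ∈ P, r * r = w := by
    obtain ⟨j, hj⟩ := h.isP ⟨y₁ * y₁, mul_mem hy₁ hy₁⟩
    obtain ⟨n, hn⟩ := exists_pow_order_two hy₁' (congrArg Subtype.val hj : (y₁ * y₁) ^ 2 ^ j = 1)
    rw [(Commute.refl y₁).mul_pow] at hn
    have hrP : y₁ ^ n ∈ P := pow_mem hy₁ n
    set r := y₁ ^ n
    have hrV : r * r ∈ V := hinvP _ (mul_mem hrP hrP) (mul_self_of_order hn)
    intro w hw hw1
    rcases horb _ hrV (ne_one_of_order hn) w hw with e | e | e | e
    · exact absurd e hw1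
    · exact ⟨r, hrP, e.symm⟩
    · exact ⟨k * r * k⁻¹, h.mem_of_conj hkX hrP, by rw [e]; group⟩
    · exact ⟨k * k * r * (k * k)⁻¹, h.mem_of_conj (mul_mem hkX hkX) hrP, by rw [e]; group⟩
  -- the centraliser of `V`
  have hCV : centralizer (V : Set G) = P := by
    have hPle : P ≤ centralizer (V : Set G) := fun x hx => mem_centralizer_iff.2 fun y hy => (hy.2.1 x hx).symm
    by_contra hne
    have hQ2 : IsPGroup 2 (centralizer (V : Set G)) :=
      (hC z (orderOf_two (hVel z hzV) hz1)).to_le fun q hq =>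
        mem_centralizer_singleton_iff.2 ((mem_centralizer_iff.1 hq z hzV).symm)
    obtain ⟨s, hs, hsP, hsN⟩ := exists_normalizing hQ2 (lt_of_le_of_ne hPle (Ne.symm hne))
    exact hsP (hCX s hsN fun y hy => (mem_centralizer_iff.1 hs y hy).symm)
  have hNV : ∀ s : G, (∀ y ∈ V, s * y * s⁻¹ ∈ V) → s ∈ normalizer (P : Set G) := by
    intro s hs
    have hsN : s ∈ normalizer (V : Set G) := by
      refine Invol.mem_normalizer_of_conj_le ?_
      rintro q ⟨w, hw, rfl⟩
      exact hs w hw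
    refine Invol.mem_normalizer_of_conj_le ?_
    rintro q ⟨w, hw, rfl⟩
    show s * w * s⁻¹ ∈ P
    rw [← hCV]
    refine mem_centralizer_iff.2 fun y hy => ?_
    have := mem_centralizer_iff.1 (hCV.symm ▸ hw) _ ((mem_normalizer_iff.1 (inv_mem hsN) y).1 hy)
    calc y * (s * w * s⁻¹) = s * (s⁻¹ * y * s⁻¹⁻¹ * w) * s⁻¹ := by group
      _ = _ := by rw [this]; group
  -- `T` is a Sylow subgroup
  obtain ⟨S, hTS⟩ := h.isT.exists_le_sylow
  have hTS' : (S : Subgroup G) = T := by
    by_contra hne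
    obtain ⟨s, hs, hsT, hsN⟩ := exists_normalizing S.2 (lt_of_le_of_ne hTS (Ne.symm hne))
    have hsX : s ∉ normalizer (P : Set G) := fun hsX => hsT (by
      have := h.max (T ⊔ zpowers s) (S.2.to_le (sup_le hTS (zpowers_le.2 hs)))
        (sup_le h.le (zpowers_le.2 hsX)) le_sup_left
      exact this ▸ mem_sup_right (mem_zpowers s))
    obtain ⟨w, hw, hwu⟩ : ∃ w ∈ V, s * w * s⁻¹ ∉ V := by
      by_contra! hall
      exact hsX (hNV s hall)
    obtain ⟨r, hr, hrw⟩ := hroot w hw fun e => hwu (by simp [e, one_mem])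
    have hrT := (mem_normalizer_iff.1 hsN r).1 (h.le_T hr)
    refine hwu (hinvP _ ?_ ?_)
    · rw [← hrw, show s * (r * r) * s⁻¹ = s * r * s⁻¹ * (s * r * s⁻¹) by group]
      exact hsq _ hrT
    · rw [show s * w * s⁻¹ * (s * w * s⁻¹) = s * (w * w) * s⁻¹ by group, hVel w hw]; group
  have hCz : ∀ g : G, Commute g z → g ∈ T := by
    have hle : (S : Subgroup G) ≤ centralizer ({z} : Set G) := fun t ht =>
      mem_centralizer_singleton_iff.2 (hzT t (hTS' ▸ ht))
    intro g hg
    rw [← hTS', ← S.is_maximal' (hC z (orderOf_two (hVel z hzV) hz1)) hle]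
    exact mem_centralizer_singleton_iff.2 hg.eq
  -- `a` is conjugate to `z`
  obtain ⟨c, hc⟩ : ∃ c : G, c * a * c⁻¹ = z := by
    have hrel : P.relIndex (S : Subgroup G) = 2 := by
      rw [hTS', relIndex, index_eq_two_iff']
      refine ⟨⟨a, haT⟩, fun b => ?_⟩
      simp only [mem_subgroupOf, coe_mul, xor_iff_or_and_not_and]
      by_cases hb : (b : G) ∈ P
      · refine ⟨Or.inr hb, fun hboth => haP ?_⟩
        have := mul_mem hboth.1 (inv_mem hb)
        rwa [mul_inv_cancel_right] at this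
      · exact ⟨Or.inl (haT' b b.2 hb), fun hboth => hb hboth.2⟩
    by_contra hno
    have hfix' : ∀ g : G, g⁻¹ * a * g ∈ S → g⁻¹ * a * g ∉ P := by
      intro g _ hgP
      have hgV : g⁻¹ * a * g ∈ V := hinvP _ hgP (by
        rw [show g⁻¹ * a * g * (g⁻¹ * a * g) = g⁻¹ * (a * a) * g by group, ha2]; group)
      rcases horb z hzV hz1 _ hgV with e | e | e | e
      · refine ne_one_of_order hao ?_
        calc a = g * (g⁻¹ * a * g) * g⁻¹ := by group
          _ = 1 := by rw [e]; group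
      · exact hno ⟨g⁻¹, by rw [inv_inv, e]⟩
      · exact hno ⟨k⁻¹ * g⁻¹, by
          calc k⁻¹ * g⁻¹ * a * (k⁻¹ * g⁻¹)⁻¹ = k⁻¹ * (g⁻¹ * a * g) * k := by group
            _ = z := by rw [e]; group⟩
      · exact hno ⟨(k * k)⁻¹ * g⁻¹, by
          calc (k * k)⁻¹ * g⁻¹ * a * ((k * k)⁻¹ * g⁻¹)⁻¹ = (k * k)⁻¹ * (g⁻¹ * a * g) * (k * k) := by
                simp only [mul_inv_rev, inv_inv, mul_assoc]
            _ = z := by rw [e]; group⟩
    obtain ⟨N, hN, hN2, -⟩ := TwoTransfer.exists_index_two S P hrel a (hTS haT) (fun j g hj _ => by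
      obtain ⟨i, rfl⟩ := Nat.exists_eq_succ_of_ne_zero (by omega : j ≠ 0)
      rw [pow_succ', pow_mul, pow_two, ha2, one_pow, mul_one, inv_mul_cancel]
      exact one_mem P) hfix'
    exact hI N hN hN2
  set z' := c * z * c⁻¹ with hz'
  have haz : Commute a z := hzT a haT
  have hconj : ∀ x : G, Commute x a → c * x * c⁻¹ ∈ T := by
    intro x hx
    refine hCz _ ?_
    rw [← hc]
    exact hx.map (MulAut.conj c).toMonoidHom
  have hz'T : z' ∈ T := hconj z haz.symm
  have hz'P : z' ∉ P := by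
    intro hz'P
    have hz'V : z' ∈ V := hinvP _ hz'P (by
      rw [hz', show c * z * c⁻¹ * (c * z * c⁻¹) = c * (z * z) * c⁻¹ by group, hVel z hzV]; group)
    obtain ⟨r, hr, hrz⟩ := hroot z hzV hz1
    have hr' : c⁻¹ * r * c ∈ T := by
      refine hCz _ ?_
      have h1 : Commute r z' := hz'V.2.1 r hr
      have := h1.map (MulAut.conj c⁻¹).toMonoidHom
      simp only [hz', MulEquiv.coe_toMonoidHom, MulAut.conj_apply, inv_inv] at this
      rwa [show c⁻¹ * (c * z * c⁻¹) * c = z by group] at this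
    refine haP ?_
    have := hsq _ hr'
    rwa [show c⁻¹ * r * c * (c⁻¹ * r * c) = c⁻¹ * (r * r) * c by group, hrz, ← hc,
      show c⁻¹ * (c * a * c⁻¹) * c = a by group] at this
  have hPC : ∀ x ∈ P, Commute x a → x = 1 ∨ x = z := by
    intro x hx hxa
    by_cases hx2 : x * x = 1
    · exact hFz x ⟨hinvP x hx hx2, mem_centralizer_singleton_iff.2 hxa.eq⟩
    exfalso
    obtain ⟨j, hj⟩ := h.isP ⟨x * x, mul_mem hx hx⟩
    obtain ⟨n, hn⟩ := exists_pow_order_two hx2 (congrArg Subtype.val hj : (x * x) ^ 2 ^ j = 1)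
    rw [(Commute.refl x).mul_pow] at hn
    have hrP : x ^ n ∈ P := pow_mem hx n
    have hra : Commute (x ^ n) a := hxa.pow_left n
    set r := x ^ n
    have hrz : r * r = z := by
      rcases hFz _ ⟨hinvP _ (mul_mem hrP hrP) (mul_self_of_order hn),
        mem_centralizer_singleton_iff.2 (hra.mul_left hra).eq⟩ with e | e
      · exact absurd e (ne_one_of_order hn)
      · exact e
    refine hz'P ?_
    rw [hz', ← hrz, show c * (r * r) * c⁻¹ = c * r * c⁻¹ * (c * r * c⁻¹) by group]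
    exact hsq _ (hconj r hra)
  refine ⟨a, z, hao, orderOf_two (hVel z hzV) hz1, fun e => haP (e ▸ hVP hzV), haz.eq, fun g hga hgz => ?_⟩
  have hgT := hCz g hgz
  by_cases hgP : g ∈ P
  · rcases hPC g hgP hga with e | e
    · exact Or.inl e
    · exact Or.inr (Or.inr (Or.inl e))
  · have hag : Commute (a * g) a := (Commute.refl a).mul_left hga
    have hg' : g = a * (a * g) := by rw [← mul_assoc, ha2, one_mul]
    rcases hPC _ (haT' g hgT hgP) hag with e | e
    · rw [e, mul_one] at hg'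
      exact Or.inr (Or.inl hg')
    · rw [e] at hg'
      exact Or.inr (Or.inr (Or.inr hg'))

end Cfsg.Agent.CITSolv
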