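import Cfsg.Agent.CITSolv.Main
import Cfsg.Agent.S3992
import Cfsg.Agent.S0144
import Cfsg.Agent.SL2Class.PSL
import Cfsg.Agent.Classical.LinearBasic
import Cfsg.Agent.CyclicZ.Like

/-!
Groups all of whose element orders are powers of 2 or primes different from 5.
-/

set_option autoImplicit false
set_option linter.style.haveILetI false
set_option linter.unusedSectionVars false

open Subgroup Matrix

namespace Cfsg.Agent.CITSolv

universe u

/-- element orders are powers of two or primes other than five -/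
def Small (G : Type*) [Group G] : Prop :=
  ∀ g : G, g ≠ 1 → (∃ k : ℕ, orderOf g = 2 ^ k) ∨ ((orderOf g).Prime ∧ orderOf g ≠ 5)

theorem Small.eppo {G : Type*} [Group G] (h : Small G) : S3992.EPPO G := by
  intro g hg
  rcases h g hg with ⟨k, hk⟩ | ⟨hp, -⟩
  · rcases k with _ | k
    · exact absurd (orderOf_eq_one_iff.1 (by simpa using hk)) hg
    · rw [hk]; exact Nat.prime_two.isPrimePow.pow k.succ_ne_zero
  · exact hp.isPrimePow

theorem Small.subgroup {G : Type*} [Group G] (h : Small G) (H : Subgroup G) : Small H := fun g hg => by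
  rw [← Subgroup.orderOf_coe]
  exact h g fun e => hg (Subtype.ext e)

theorem Small.quotient {G : Type*} [Group G] (h : Small G) (N : Subgroup G) [N.Normal] : Small (G ⧸ N) := by
  intro g hg
  obtain ⟨x, rfl⟩ := QuotientGroup.mk_surjective g
  have hd := orderOf_map_dvd (QuotientGroup.mk' N) x
  rcases h x (fun e => hg (by rw [e]; rfl)) with ⟨k, hk⟩ | ⟨hp, hp5⟩
  · obtain ⟨i, -, hi⟩ := (Nat.dvd_prime_pow Nat.prime_two).1 (hk ▸ hd)
    exact Or.inl ⟨i, hi⟩
  · rcases (Nat.dvd_prime hp).1 hd with e | e
    · exact absurd (orderOf_eq_one_iff.1 e) hg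
    · exact Or.inr ⟨e.symm ▸ hp, e.symm ▸ hp5⟩

/-- the order of an element divisible by an odd number other than one -/
theorem Small.eq_of_dvd {G : Type*} [Group G] (h : Small G) {g : G} {q : ℕ} (hq : q.Prime) (hq2 : q ≠ 2)
    (hd : q ∣ orderOf g) : orderOf g = q ∧ q ≠ 5 := by
  have hg : g ≠ 1 := fun e => by
    rw [e, orderOf_one, Nat.dvd_one] at hd
    exact hq.ne_one hd
  rcases h g hg with ⟨k, hk⟩ | ⟨hp, hp5⟩
  · exact absurd ((Nat.prime_dvd_prime_iff_eq hq Nat.prime_two).1 (hq.dvd_of_dvd_pow (hk ▸ hd))) hq2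
  · have e := (Nat.prime_dvd_prime_iff_eq hq hp).1 hd
    exact ⟨e.symm, e ▸ hp5⟩

theorem Small.cit {G : Type*} [Group G] (h : Small G) : CIT G := by
  intro t ht g
  rcases eq_or_ne g 1 with rfl | hg
  · exact ⟨0, by simp⟩
  rcases h (g : G) (fun e => hg (Subtype.ext e)) with ⟨k, hk⟩ | ⟨hp, -⟩
  · exact ⟨k, Subtype.ext (by rw [coe_pow, ← hk, pow_orderOf_eq_one]; rfl)⟩
  by_cases h2 : orderOf (g : G) = 2
  · exact ⟨1, Subtype.ext (by rw [coe_pow, pow_one, ← h2, pow_orderOf_eq_one]; rfl)⟩
  exfalso
  have hc : Commute (g : G) t := mem_centralizer_singleton_iff.1 g.2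
  have ho := hc.orderOf_mul_eq_mul_orderOf_of_coprime (by
    rw [ht]; exact (Nat.coprime_primes hp Nat.prime_two).2 h2)
  have := (h.eq_of_dvd hp h2 (g := (g : G) * t) (ho ▸ dvd_mul_right _ _)).1
  rw [ho, ht] at this
  have := hp.pos
  omega

/-- isomorphism type of `PSL₂(7)` -/
def L27 (G : Type u) [Group G] : Prop :=
  ∃ (F : Type) (_ : Field F) (_ : Fintype F), Fintype.card F = 7 ∧
    Nonempty (G ≃* Matrix.ProjectiveSpecialLinearGroup (Fin 2) F)

theorem card_psl_two {F : Type*} [Field F] [Fintype F] {q : ℕ} (hq : Fintype.card F = q) :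
    Nat.gcd 2 (q - 1) * ((q - 1) * Nat.card (Matrix.ProjectiveSpecialLinearGroup (Fin 2) F)) =
      (q ^ 2 - 1) * (q ^ 2 - q) := by
  have h1 := Classical.card_sl_mul hq 2 (by norm_num)
  have h2 := Classical.card_psl_mul (ι := Fin 2) (F := F)
  rw [Fin.prod_univ_two] at h1
  rw [Fintype.card_fin, hq] at h2
  rw [← h2, mul_left_comm] at h1
  simpa using h1

theorem L27.card {G : Type u} [Group G] (h : L27 G) : Nat.card G = 168 := by
  obtain ⟨F, iF, iFF, hF, ⟨e⟩⟩ := h
  have := card_psl_two hF
  rw [Nat.card_congr e.toEquiv]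
  norm_num at this
  omega

theorem L27.simple {G : Type u} [Group G] (h : L27 G) : IsSimpleGroup G := by
  classical
  obtain ⟨F, iF, iFF, hF, ⟨e⟩⟩ := h
  haveI : IsSimpleGroup (Matrix.ProjectiveSpecialLinearGroup (Fin 2) F) := by
    refine Classical.isSimpleGroup_psl (Or.inr ⟨by simp, ?_⟩)
    obtain ⟨t, r, hr, -⟩ := SL2Class.exists_split (F := F) (by omega)
    by_contra! hall
    have hle : (Finset.univ : Finset F) ⊆ {0, 1, -1} := fun x _ => by
      by_cases hx : x = 0
      · simp [hx]
      · rcases sq_eq_one_iff.1 (hall x hx) with e | e <;> simp [e]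
    have := (Finset.card_le_card hle).trans Finset.card_le_three
    rw [Finset.card_univ] at this
    omega
  haveI : Nontrivial G := e.toEquiv.nontrivial
  exact IsSimpleGroup.isSimpleGroup_of_surjective e.symm.toMonoidHom e.symm.surjective

theorem exists_torus {F : Type*} [Field F] [Fintype F] (hq : 4 ≤ Fintype.card F) :
    (∃ x : Matrix.ProjectiveSpecialLinearGroup (Fin 2) F,
        orderOf x = (Fintype.card F - 1) / Nat.gcd 2 (Fintype.card F - 1)) ∧
      ∃ x : Matrix.ProjectiveSpecialLinearGroup (Fin 2) F,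
        orderOf x = (Fintype.card F + 1) / Nat.gcd 2 (Fintype.card F - 1) := by
  classical
  obtain ⟨t, r, hr, ht⟩ := SL2Class.exists_split (F := F) hq
  obtain ⟨t', ht'⟩ := SL2Class.exists_noRoot (F := F)
  have ht'4 : t' * t' ≠ 4 := by
    intro e
    by_cases h2 : (2 : F) = 0
    · have h0 : t' = 0 := (SL2Class.sq_eq_four_iff_even h2 t').1 e
      exact ht' 1 (by rw [h0]; linear_combination h2)
    · exact SL2Class.sq_ne_four_of_noRoot h2 ht' e
  refine ⟨?_, ?_⟩
  · obtain ⟨x, hx⟩ := SL2Class.exists_orderOf_proj (g := SL2Class.comp t) (by rw [SL2Class.tr_comp]; exact ht)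
      (c := Fintype.card F - 1)
      (SL2Class.card_cent_split (r := r) (by rw [SL2Class.tr_comp]; exact hr) (by rw [SL2Class.tr_comp]; exact ht))
      (fun h => by omega)
    exact ⟨_, hx⟩
  · obtain ⟨x, hx⟩ := SL2Class.exists_orderOf_proj (g := SL2Class.comp t') (by rw [SL2Class.tr_comp]; exact ht'4)
      (c := Fintype.card F + 1)
      (SL2Class.card_cent_noRoot (by rw [SL2Class.tr_comp]; exact ht') (SL2Class.nonScalar_comp t'))
      (fun h => by omega)
    exact ⟨_, hx⟩

/-- the field of the simple case -/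
theorem Small.field_card {G : Type u} [Group G] [Finite G] (h : Small G) {F : Type} [Field F] [Fintype F]
    (hq : 4 ≤ Fintype.card F) (hF : Fintype.card F % 2 = 0 ∨ Fintype.card F = 9 ∨ (Fintype.card F).Prime)
    (e : G ≃* Matrix.ProjectiveSpecialLinearGroup (Fin 2) F) : Fintype.card F = 7 := by
  obtain ⟨⟨x, hx⟩, ⟨y, hy⟩⟩ := exists_torus (F := F) hq
  have hcard := card_psl_two (F := F) (q := Fintype.card F) rfl
  have hno5 : ¬ 5 ∣ Nat.card G := fun hd => by
    haveI : Fact (Nat.Prime 5) := ⟨by norm_num⟩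
    obtain ⟨g, hg⟩ := exists_prime_orderOf_dvd_card' (G := G) 5 hd
    exact (h.eq_of_dvd (by norm_num) (by norm_num) (dvd_of_eq hg.symm)).2 rfl
  have h3 : ∀ (z : Matrix.ProjectiveSpecialLinearGroup (Fin 2) F), 3 ∣ orderOf z → orderOf z = 3 := fun z hz => by
    rw [← e.symm.orderOf_eq z] at hz ⊢
    exact (h.eq_of_dvd Nat.prime_three (by norm_num) hz).1
  have h5 : ∀ (z : Matrix.ProjectiveSpecialLinearGroup (Fin 2) F), ¬ 5 ∣ orderOf z := fun z hz => by
    refine hno5 (hz.trans ?_)
    rw [← e.symm.orderOf_eq z]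
    exact orderOf_dvd_natCard _
  generalize hqd : Fintype.card F = q at *
  rcases hF with hev | h9 | hp
  · rw [show Nat.gcd 2 (q - 1) = 1 from Nat.prime_two.coprime_iff_not_dvd.2 (by omega), Nat.div_one] at hx hy
    have hq3 : ¬ 3 ∣ q := by
      intro hd
      obtain ⟨r, hr⟩ := CharP.exists F
      obtain ⟨n, hrp, hn⟩ := FiniteField.card F r
      rw [hqd] at hn
      have e3 := (Nat.prime_dvd_prime_iff_eq Nat.prime_three hrp).1 (Nat.prime_three.dvd_of_dvd_pow (hn ▸ hd))
      have e2 := (Nat.prime_dvd_prime_iff_eq Nat.prime_two hrp).1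
        (Nat.prime_two.dvd_of_dvd_pow (hn ▸ Nat.dvd_of_mod_eq_zero hev))
      omega
    have hmod : q % 3 = 1 ∨ q % 3 = 2 := by omega
    rcases (by rcases hmod with h' | h' <;> [left; right] <;> omega : 3 ∣ q - 1 ∨ 3 ∣ q + 1) with hd | hd
    · have := h3 x (hx ▸ hd)
      exact absurd (by rw [hy]; omega : 5 ∣ orderOf y) (h5 y)
    · have := h3 y (hy ▸ hd)
      omega
  · subst h9
    norm_num at hy
    exact absurd (dvd_of_eq hy.symm) (h5 y)
  · have hodd : q % 2 = 1 := Nat.odd_iff.1 (hp.odd_of_ne_two (by omega))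
    rw [show Nat.gcd 2 (q - 1) = 2 from Nat.gcd_eq_left (by omega)] at hx hy
    have hq3 : ¬ 3 ∣ q := fun hd => by
      have := (Nat.prime_dvd_prime_iff_eq Nat.prime_three hp).1 hd
      omega
    have hmod : q % 3 = 1 ∨ q % 3 = 2 := by omega
    rcases (by rcases hmod with h' | h' <;> [left; right] <;> omega : 3 ∣ (q - 1) / 2 ∨ 3 ∣ (q + 1) / 2) with hd | hd
    · have := h3 x (hx ▸ hd)
      omega
    · have := h3 y (hy ▸ hd)
      have hq5 : q = 5 := by omega
      subst hq5
      exfalso
      refine hno5 ?_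
      rw [Nat.card_congr e.toEquiv]
      norm_num at hcard
      omega

/-- the simple case -/
theorem Small.simple_case {G : Type u} [Group G] [Finite G] [IsSimpleGroup G] (h : Small G)
    (hna : ¬ IsMulCommutative G)
    (ih : ∀ H : Subgroup G, H ≠ ⊤ → ¬ Group.IsSolvable H → L27 H) : L27 G := by
  have hS : SolLoc G := by
    intro R hR hR1
    by_contra hns
    haveI := (ih _ (normalizer_ne_top hna R hR hR1) hns).simple
    rcases (normal_in_normalizer (H := R)).eq_bot_or_eq_top with e | e
    · rw [subgroupOf_eq_bot] at e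
      exact hR1 (le_bot_iff.1 ((le_inf le_rfl le_normalizer).trans e.le_bot))
    · rw [subgroupOf_eq_top] at e
      haveI : Fact (Nat.Prime 2) := ⟨Nat.prime_two⟩
      haveI := (hR.to_le e).isNilpotent
      exact hns inferInstance
  have hnosol : ¬ Group.IsSolvable G := fun hs => by
    rcases (derivedSeries_normal G 1).eq_bot_or_eq_top with e | e
    · rw [derivedSeries_one, _root_.commutator_def] at e
      exact hna ⟨⟨fun a b => commutatorElement_eq_one_iff_mul_comm.1
        (mem_bot.1 (e ▸ commutator_mem_commutator (mem_top a) (mem_top b)))⟩⟩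
    · obtain ⟨n, hn⟩ := hs.solvable
      have hall : ∀ k, derivedSeries G k = ⊤ := by
        intro k
        induction k with
        | zero => exact derivedSeries_zero G
        | succ k ihk => rw [derivedSeries_succ, ihk, ← derivedSeries_zero G, ← derivedSeries_succ]; exact e
      exact (bot_ne_top : (⊥ : Subgroup G) ≠ ⊤) (hn.symm.trans (hall n))
  rcases main hna h.cit hS with (⟨F, iF, iFF, hch, hq, ⟨e⟩⟩ | hsz) | ⟨F, iF, iFF, hq, ⟨e⟩⟩
  · haveI := hch
    exact ⟨F, iF, iFF, h.field_card hq (Or.inl (FiniteField.even_card_of_char_two (ringChar.eq F 2))) e, ⟨e⟩⟩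
  · obtain ⟨-, m, -, hm⟩ := hsz
    exfalso
    haveI : Fact (Nat.Prime 5) := ⟨by norm_num⟩
    have hd : 5 ∣ (2 ^ (2 * m + 1)) ^ 2 + 1 := by
      rw [← pow_mul, show (2 * m + 1) * 2 = 4 * m + 2 by ring, pow_add, pow_mul]
      have h16 : (2 ^ 4) ^ m % 5 = 1 := by rw [Nat.pow_mod]; norm_num
      omega
    obtain ⟨g, hg⟩ := exists_prime_orderOf_dvd_card' (G := G) 5
      (hm ▸ dvd_mul_of_dvd_left (dvd_mul_of_dvd_right hd _) _)
    exact (h.eq_of_dvd (by norm_num) (by norm_num) (dvd_of_eq hg.symm)).2 rfl
  · refine ⟨F, iF, iFF, ?_, ⟨e⟩⟩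
    by_cases h4 : 4 ≤ Fintype.card F
    · exact h.field_card h4 (Or.inr (hq.imp id And.left)) e
    exfalso
    have h3 : Fintype.card F = 2 ∨ Fintype.card F = 3 := by
      have := Fintype.one_lt_card (α := F)
      omega
    have hc := card_psl_two (F := F) (q := Fintype.card F) rfl
    rw [← Nat.card_congr e.toEquiv] at hc
    rcases h3 with h3 | h3 <;> rw [h3] at hc <;> norm_num at hc
    · exact hnosol (S0144.result 2 3 1 1 Nat.prime_two Nat.prime_three (by norm_num; omega))
    · exact hnosol (S0144.result 2 3 2 1 Nat.prime_two Nat.prime_three (by norm_num; omega))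

theorem two_involutions {G : Type u} [Group G] [Finite G] (h : L27 G) :
    ¬ S3992.UniqueOrd G 2 := by
  intro hu
  haveI := h.simple
  have hnc : ¬ IsCyclic G := fun hc => by
    have := h.card
    have hp : (Nat.card G).Prime := by
      letI := IsCyclic.commGroup (α := G)
      exact IsSimpleGroup.prime_card
    rw [this] at hp
    norm_num at hp
  obtain ⟨E, hE⟩ := Cfsg.Agent.S0204.result (G := G) hnc
  have h4 := hE.card_four
  have hord : ∀ x : E, x ≠ 1 → orderOf (x : G) = 2 := fun x hx =>
    Invol.klein_orderOf hE x.2 fun e => hx (Subtype.ext e)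
  haveI : Nontrivial E := Finite.one_lt_card_iff_nontrivial.1 (by omega)
  obtain ⟨a, ha⟩ := exists_ne (1 : E)
  obtain ⟨b, hb, hba⟩ : ∃ b : E, b ≠ 1 ∧ b ≠ a := by
    by_contra! hall
    have : Nat.card E ≤ 2 := by
      rw [← Set.ncard_univ, ← Set.ncard_pair ha.symm]
      exact Set.ncard_le_ncard (fun v _ => (em (v = 1)).elim Or.inl fun hv => Or.inr (hall v hv))
    omega
  haveI := hE
  have hmem := hu a b (hord a ha) (hord b hb) (congrArg Subtype.val (mul_comm_of_exponent_two hE.exponent_two a b))
  obtain ⟨n, hn⟩ := mem_zpowers_iff.1 hmem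
  rw [← zpow_mod_orderOf, hord a ha] at hn
  rcases Int.emod_two_eq_zero_or_one n with h0 | h0 <;> rw [Nat.cast_ofNat, h0] at hn
  · rw [zpow_zero] at hn
    exact hb (Subtype.ext hn.symm)
  · rw [zpow_one] at hn
    exact hba (Subtype.ext hn.symm)

/-- the normaliser of a subgroup of odd prime order -/
theorem Small.normalizer_struct {G : Type u} [Group G] [Finite G] (h : Small G) {p : ℕ} (hp : p.Prime)
    (hp2 : p ≠ 2) {P : Subgroup G} (hP : Nat.card P = p) :
    ∃ j : ℕ, Nat.card ↥((normalizerMonoidHom P).ker) = p ^ j ∧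
      Nat.card ↥((normalizerMonoidHom P).range) ∣ p - 1 := by
  haveI := Fact.mk hp
  haveI : IsCyclic P := isCyclic_of_prime_card hP
  refine ⟨_, (IsPGroup.iff_card (p := p)).1 (fun g => ⟨1, ?_⟩) |>.choose_spec, ?_⟩
  · obtain ⟨x, hx⟩ := exists_prime_orderOf_dvd_card' (G := P) p (dvd_of_eq hP.symm)
    have hker : ((g : normalizer (P : Set G)) : G) ∈ centralizer (P : Set G) :=
      (SetLike.ext_iff.1 (normalizerMonoidHom_ker (H := P)) g.1).1 g.2
    set c : G := ((g : normalizer (P : Set G)) : G) with hcdef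
    have hc : Commute (x : G) c := mem_centralizer_iff.1 hker x x.2
    have hxo : orderOf (x : G) = p := by rw [Subgroup.orderOf_coe, hx]
    refine Subtype.ext (Subtype.ext ?_)
    show c ^ p ^ 1 = 1
    rw [pow_one]
    by_contra hne
    have hc1 : c ≠ 1 := fun e => hne (by rw [e, one_pow])
    obtain ⟨q, i, hq, hi, hqi⟩ := (isPrimePow_nat_iff _).1 (h.eppo c hc1)
    by_cases hqp : q = p
    · exact hne (((h.eq_of_dvd hp hp2) (by rw [← hqi, hqp]; exact dvd_pow_self p hi.ne')).1 ▸ pow_orderOf_eq_one c)
    · exact h.eppo.no_commute hp hq (Ne.symm hqp) (i := 1) (by rw [pow_one, hxo]) one_ne_zero hqi.symm hi.ne' hc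
  · have := (normalizerMonoidHom P).range.card_subgroup_dvd_card
    rwa [IsCyclic.card_mulAut, hP, Nat.totient_prime hp] at this

theorem Small.l27_of_normal {G : Type u} [Group G] [Finite G] (h : Small G) (M : Subgroup G) [M.Normal]
    (hM : L27 M) : M = ⊤ := by
  haveI : Fact (Nat.Prime 7) := ⟨by norm_num⟩
  haveI : Fact (Nat.Prime 3) := ⟨by norm_num⟩
  have h168 := hM.card
  -- the index divides the order of the normaliser
  have key : ∀ (p : ℕ) [Fact p.Prime] (P : Sylow p M),
      Nat.card ↥(normalizer ((P : Subgroup M).map M.subtype : Set G)) =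
        M.index * Nat.card ↥(normalizer (P : Set M)) := by
    intro p hp P
    set N := normalizer ((P : Subgroup M).map M.subtype : Set G) with hN
    have h1 : M.relIndex N = M.index := by
      rw [← relIndex_sup_right, P.normalizer_sup_eq_top, relIndex_top_right]
    have h2 : (M ⊓ N) = (normalizer (P : Set M)).map M.subtype := by
      ext g
      constructor
      · intro hg
        refine ⟨⟨g, hg.1⟩, mem_normalizer_iff.2 fun y => ?_, rfl⟩
        have hgN := mem_normalizer_iff.1 hg.2 (y : G)
        constructor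
        · intro hy
          obtain ⟨w, hw, e⟩ := hgN.1 ⟨y, hy, rfl⟩
          rwa [show (⟨g, hg.1⟩ : M) * y * (⟨g, hg.1⟩ : M)⁻¹ = w from Subtype.ext e.symm]
        · intro hy
          obtain ⟨w, hw, e⟩ := hgN.2 ⟨_, hy, rfl⟩
          exact (M.subtype_injective e) ▸ hw
      · rintro ⟨x, hx, rfl⟩
        refine mem_inf.2 ⟨x.2, mem_normalizer_iff.2 fun y => ⟨?_, ?_⟩⟩
        · rintro ⟨w, hw, rfl⟩
          exact ⟨_, (mem_normalizer_iff.1 hx w).1 hw, rfl⟩
        · rintro ⟨w, hw, e⟩
          refine ⟨x⁻¹ * w * x, ?_, ?_⟩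
          · have := (mem_normalizer_iff.1 (inv_mem hx) w).1 hw
            rwa [inv_inv] at this
          · show (x : G)⁻¹ * (w : G) * x = y
            rw [show (w : G) = x * y * (x : G)⁻¹ from e]
            group
    rw [← relIndex_bot_left N, ← relIndex_mul_relIndex ⊥ (M ⊓ N) N bot_le inf_le_right, inf_relIndex_right, h1,
      relIndex_bot_left, h2, card_map_of_injective M.subtype_injective, mul_comm]
  have hsylow : ∀ (p : ℕ) [Fact p.Prime] (P : Sylow p M), padicValNat p 168 = 1 →
      Nat.card ((P : Subgroup M).map M.subtype) = p := by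
    intro p hp P hv
    rw [card_map_of_injective M.subtype_injective, P.card_eq_multiplicity, Nat.factorization_def _ hp.out, h168, hv,
      pow_one]
  by_contra hne
  have hk1 : M.index ≠ 1 := fun e => hne (index_eq_one.1 e)
  -- seven does not divide the index
  have hk7 : ¬ 7 ∣ M.index := by
    intro hd
    let P : Sylow 3 M := default
    obtain ⟨j, hj, hd2⟩ := h.normalizer_struct Nat.prime_three (by norm_num)
      (hsylow 3 P (by
        rw [show (168 : ℕ) = 3 ^ 1 * 56 from rfl, padicValNat.mul (by norm_num) (by norm_num),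
          padicValNat.prime_pow, padicValNat.eq_zero_of_not_dvd (by norm_num)]))
    have hN := (normalizerMonoidHom ((P : Subgroup M).map M.subtype)).ker.card_mul_index
    rw [index_ker, hj, key 3 P] at hN
    have h7 : 7 ∣ 3 ^ j * Nat.card ↥((normalizerMonoidHom ((P : Subgroup M).map M.subtype)).range) :=
      hN ▸ dvd_mul_of_dvd_left hd _
    rcases (Nat.Prime.dvd_mul (by norm_num)).1 h7 with h' | h'
    · exact absurd ((Nat.prime_dvd_prime_iff_eq (by norm_num) Nat.prime_three).1
        ((by norm_num : Nat.Prime 7).dvd_of_dvd_pow h')) (by norm_num)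
    · have := Nat.le_of_dvd (by norm_num) (h'.trans hd2)
      omega
  let P : Sylow 7 M := default
  have hP7 := hsylow 7 P (by
    rw [show (168 : ℕ) = 7 ^ 1 * 24 from rfl, padicValNat.mul (by norm_num) (by norm_num),
      padicValNat.prime_pow, padicValNat.eq_zero_of_not_dvd (by norm_num)])
  have h21 : Nat.card ↥(normalizer (P : Set M)) = 21 := sylow_seven_normalizer hM P
  obtain ⟨j, hj, hd6⟩ := h.normalizer_struct (by norm_num : Nat.Prime 7) (by norm_num) hP7
  set φ := normalizerMonoidHom ((P : Subgroup M).map M.subtype) with hφ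
  have hN := φ.ker.card_mul_index
  rw [index_ker, hj, key 7 P, h21] at hN
  have hr6 : Nat.card φ.range ≤ 6 := Nat.le_of_dvd (by norm_num) hd6
  rcases j with _ | _ | j
  · rw [pow_zero, one_mul] at hN
    omega
  · rw [zero_add, pow_one] at hN
    have hr : Nat.card φ.range = 6 := by omega
    haveI : IsCyclic ↥((P : Subgroup M).map M.subtype) := isCyclic_of_prime_card (p := 7) hP7
    have htop : φ.range = ⊤ := eq_top_of_card_eq _ (by rw [hr, IsCyclic.card_mulAut, hP7]; decide)
    haveI : IsCyclic (MulAut ↥((P : Subgroup M).map M.subtype)) := by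
      haveI : Fact (Nat.card ↥((P : Subgroup M).map M.subtype)).Prime := ⟨by rw [hP7]; norm_num⟩
      exact isCyclic_of_surjective (IsCyclic.mulAutMulEquiv (G := ↥((P : Subgroup M).map M.subtype))).symm.toMonoidHom
        (MulEquiv.surjective _)
    obtain ⟨σ, hσ⟩ := IsCyclic.exists_generator (α := MulAut ↥((P : Subgroup M).map M.subtype))
    obtain ⟨g, hg⟩ : σ ∈ φ.range := htop ▸ mem_top σ
    have ho : orderOf σ = 6 := by
      rw [orderOf_eq_card_of_forall_mem_zpowers hσ, IsCyclic.card_mulAut, hP7]
      decide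
    have h6 : 6 ∣ orderOf (g : G) := by
      rw [← ho, ← hg, Subgroup.orderOf_coe]
      exact orderOf_map_dvd φ g
    have := (h.eq_of_dvd Nat.prime_three (by norm_num) (dvd_trans (by norm_num) h6)).1
    omega
  · have : 49 ∣ 7 ^ (j + 1 + 1) * Nat.card φ.range := Dvd.dvd.mul_right ⟨7 ^ j, by ring⟩ _
    rw [hN] at this
    exact hk7 (((by norm_num : Nat.Prime 7).dvd_mul.1 (by omega : 7 ∣ M.index * 3)).resolve_right (by norm_num))
where
  sylow_seven_normalizer {M : Type u} [Group M] [Finite M] (hM : L27 M) [Fact (Nat.Prime 7)] (P : Sylow 7 M) :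
      Nat.card ↥(normalizer (P : Set M)) = 21 := by
    haveI := hM.simple
    have hc : Nat.card (P : Subgroup M) = 7 := by
      rw [P.card_eq_multiplicity, Nat.factorization_def _ (by norm_num : Nat.Prime 7), hM.card,
        show (168 : ℕ) = 7 ^ 1 * 24 from rfl, padicValNat.mul (by norm_num) (by norm_num),
        padicValNat.prime_pow, padicValNat.eq_zero_of_not_dvd (by norm_num), add_zero, pow_one]
    have hi : (P : Subgroup M).index = 24 := by
      have := (P : Subgroup M).card_mul_index
      rw [hc, hM.card] at this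
      omega
    have hd := P.card_dvd_index
    rw [hi] at hd
    have hmod : Nat.card (Sylow 7 M) % 7 = 1 := card_sylow_modEq_one 7 M
    have hle := Nat.le_of_dvd (by norm_num) hd
    have h8 : Nat.card (Sylow 7 M) = 8 ∨ Nat.card (Sylow 7 M) = 1 := by
      have : ∀ n ≤ 24, n ∣ 24 → n % 7 = 1 → n = 8 ∨ n = 1 := by decide
      exact this _ hle hd hmod
    have hNi := P.card_eq_index_normalizer
    have hmul := (normalizer (P : Set M)).card_mul_index
    rw [hM.card] at hmul
    rcases h8 with e | e
    · rw [← hNi, e] at hmul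
      omega
    · exfalso
      rw [e] at hNi
      haveI := normalizer_eq_top_iff.1 (index_eq_one.1 hNi.symm)
      rcases (inferInstance : (P : Subgroup M).Normal).eq_bot_or_eq_top with e' | e'
      · rw [e', card_bot] at hc; omega
      · rw [e', card_top, hM.card] at hc; omega

theorem core (n : ℕ) : ∀ (G : Type u) [Group G] [Finite G], Nat.card G ≤ n → Small G → ¬ Group.IsSolvable G →
    L27 G := by
  induction n with
  | zero => intro G _ _ hn; exact absurd hn (by have := Nat.card_pos (α := G); omega)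
  | succ n ih =>
    intro G _ _ hn h hns
    have ihH : ∀ H : Subgroup G, H ≠ ⊤ → ¬ Group.IsSolvable H → L27 H := fun H hH hs =>
      ih H (by
        have := H.card_le_card_group
        have : Nat.card H ≠ Nat.card G := fun e => hH (eq_top_of_card_eq H e)
        omega) (h.subgroup H) hs
    obtain ⟨R, hRn, hRs, hRmax⟩ := CyclicZ.exists_radical G
    rcases eq_or_ne R ⊥ with hR | hR
    · subst hR
      haveI : Nontrivial G := by
        by_contra hnt
        rw [not_nontrivial_iff_subsingleton] at hnt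
        exact hns inferInstance
      obtain ⟨M, hMn, hMs, hMna, -⟩ := S3992.exists_monolith (X := G) h.eppo
        (fun N hN hs => le_bot_iff.1 (hRmax N hN hs))
      by_cases hM : M = ⊤
      · subst hM
        have e : (⊤ : Subgroup G) ≃* G := Subgroup.topEquiv
        haveI : IsSimpleGroup G := IsSimpleGroup.isSimpleGroup_of_surjective e.toMonoidHom e.surjective
        refine h.simple_case (fun hc => hMna ⟨⟨fun a b => Subtype.ext (hc.is_comm.comm (a : G) b)⟩⟩) ihH
      · haveI := hMn
        refine absurd (h.l27_of_normal M (ihH M hM ?_)) hM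
        intro hs
        haveI := hMs
        exact (Subgroup.nontrivial_iff_ne_bot M).1 inferInstance (le_bot_iff.1 (hRmax M hMn hs))
    · exfalso
      obtain ⟨p, hp, hRp⟩ := S3992.radical_isPGroup h.eppo hns R hRs
      haveI := Fact.mk hp
      have hRW : R ≤ Cfsg.pCore p G := Core.le_pCore (hN := hRn) hRp
      have hW : Cfsg.pCore p G ≠ ⊥ := fun e => hR (le_bot_iff.1 (e ▸ hRW))
      obtain ⟨V, hVn, hVc, φ, hVp, hVnt, hφ⟩ := S3992.exists_core_action h.eppo hW
      letI : CommGroup V := { (inferInstance : Group V) with mul_comm := hVc.is_comm.comm }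
      set X := G ⧸ Cfsg.pCore p G
      have hXns : ¬ Group.IsSolvable X := fun hs => hns (by
        haveI : Group.IsSolvable ↥(Cfsg.pCore p G) := by
          haveI := (Core.pCore_isPGroup (p := p) (G := G)).isNilpotent
          infer_instance
        exact (Group.isSolvable_iff_subgroup_quotient (Cfsg.pCore p G)).2 ⟨inferInstance, hs⟩)
      have hlt : Nat.card X < Nat.card G := by
        have h1 := (Cfsg.pCore p G).card_mul_index
        have h2 : 1 < Nat.card ↥(Cfsg.pCore p G) := one_lt_card_iff_ne_bot _ |>.2 hW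
        have h3 : 0 < (Cfsg.pCore p G).index := Nat.pos_of_ne_zero index_ne_zero_of_finite
        show (Cfsg.pCore p G).index < _
        rw [← h1]
        exact lt_mul_of_one_lt_left h3 h2
      have hX : L27 X := ih X (by omega) (h.quotient _) hXns
      by_cases hp2 : p = 2
      · subst hp2
        haveI : Fact (Nat.Prime 7) := ⟨by norm_num⟩
        let P : Sylow 7 X := default
        have h21 := Small.l27_of_normal.sylow_seven_normalizer hX P
        set K := normalizer (P : Set X)
        haveI : ((P : Subgroup X).subgroupOf K).Normal := normal_in_normalizer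
        have hC : Nat.card ↥((P : Subgroup X).subgroupOf K) = 7 := by
          show Nat.card ↥((P : Subgroup X).subgroupOf (normalizer ((P : Subgroup X) : Set X))) = 7
          rw [Nat.card_congr (subgroupOfEquivOfLe (le_normalizer (H := (P : Subgroup X)))).toEquiv,
            P.card_eq_multiplicity, Nat.factorization_def _ (by norm_num : Nat.Prime 7), hX.card,
            show (168 : ℕ) = 7 ^ 1 * 24 from rfl, padicValNat.mul (by norm_num) (by norm_num),
            padicValNat.prime_pow, padicValNat.eq_zero_of_not_dvd (by norm_num), add_zero, pow_one]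
        obtain ⟨v, hv⟩ := exists_ne (1 : V)
        refine hv (S3992.eq_one_of_fpf_frobenius (p := 2) (q := 7) (r := 3) Nat.prime_two (by norm_num)
          Nat.prime_three (by norm_num) (by norm_num) h21 ((P : Subgroup X).subgroupOf K) hC
          (fun k _ e => ?_) hVp (φ.comp K.subtype) (fun k hk w hw => ?_) v)
        · have := ((h.quotient (Cfsg.pCore 2 G)).subgroup K).eq_of_dvd (by norm_num : Nat.Prime 7) (by norm_num)
            (g := k) (e ▸ dvd_mul_right 7 3)
          omega
        · obtain ⟨s, hs, hsd⟩ := Nat.exists_prime_and_dvd (fun e => hk (orderOf_eq_one_iff.1 e) : orderOf k ≠ 1)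
          refine hφ (k : X) s hs ?_ (by rwa [Subgroup.orderOf_coe]) w hw
          rintro rfl
          have := hsd.trans (h21 ▸ orderOf_dvd_natCard k)
          norm_num at this
      · exact two_involutions hX (S3992.uniqueOrd_of_fpf hp Nat.prime_two (Ne.symm hp2) hVp φ
          fun k hk w hw => hφ k 2 Nat.prime_two (Ne.symm hp2) (dvd_of_eq hk.symm) w hw)

theorem psl_congr {F K : Type*} [Field F] [Field K] (e : F ≃+* K) :
    Nonempty (Matrix.ProjectiveSpecialLinearGroup (Fin 2) F ≃* Matrix.ProjectiveSpecialLinearGroup (Fin 2) K) := by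
  let E : Matrix.SpecialLinearGroup (Fin 2) F ≃* Matrix.SpecialLinearGroup (Fin 2) K :=
    MonoidHom.toMulEquiv (Matrix.SpecialLinearGroup.map (e : F →+* K))
      (Matrix.SpecialLinearGroup.map (e.symm : K →+* F))
      (MonoidHom.ext fun A => Subtype.ext (Matrix.ext fun i j => e.symm_apply_apply _))
      (MonoidHom.ext fun A => Subtype.ext (Matrix.ext fun i j => e.apply_symm_apply _))
  refine ⟨QuotientGroup.congr _ _ E ?_⟩
  ext y
  constructor
  · rintro ⟨x, hx, rfl⟩
    refine mem_center_iff.2 fun z => ?_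
    obtain ⟨w, rfl⟩ := E.surjective z
    show E w * E x = E x * E w
    rw [← map_mul, ← map_mul, mem_center_iff.1 hx w]
  · intro hy
    refine ⟨E.symm y, mem_center_iff.2 fun w => E.injective ?_, E.apply_symm_apply y⟩
    rw [map_mul, map_mul, E.apply_symm_apply]
    exact mem_center_iff.1 hy (E w)

theorem recog {G : Type u} [Group G] [Finite G] {F : Type*} [Field F] [Fintype F] (hF : Fintype.card F = 7)
    (h3 : 3 ≤ (Nat.card G).primeFactors.card) (h : Small G) :
    Nonempty (G ≃* Matrix.ProjectiveSpecialLinearGroup (Fin 2) F) := by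
  have hns : ¬ Group.IsSolvable G := fun hs => by
    haveI := hs
    have := S3992.primeFactors_le_two (X := G) h.eppo
    omega
  obtain ⟨K, iK, iKF, hK, ⟨e⟩⟩ := core (Nat.card G) G le_rfl h hns
  obtain ⟨f⟩ := psl_congr (FiniteField.ringEquivOfCardEq (K := K) (K' := F) (by rw [hK, hF]))
  exact ⟨e.trans f⟩

end Cfsg.Agent.CITSolv
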