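import Cfsg.Agent.CITSolv.Basic

/-!
An element of order three acting without fixed points on a subgroup: the identities and the doubling of
elementary subgroups centralised by an inverting element.
-/

set_option autoImplicit false
set_option linter.unusedSectionVars false

open Subgroup

namespace Cfsg.Agent.CITSolv

variable {G : Type*} [Group G] [Finite G]

/-- an element of order dividing three normalising `P` without fixed points -/
structure Fpf (P : Subgroup G) (k : G) : Prop where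
  conj : ∀ x ∈ P, k * x * k⁻¹ ∈ P
  cube : k * k * k = 1
  fixed : ∀ x ∈ P, Commute k x → x = 1

variable {P : Subgroup G} {k : G}

theorem Fpf.inv_eq (h : Fpf P k) : k⁻¹ = k * k :=
  inv_eq_of_mul_eq_one_left h.cube

theorem Fpf.symm (h : Fpf P k) : Fpf P k⁻¹ := by
  refine ⟨fun x hx => ?_, ?_, fun x hx hc => h.fixed x hx ?_⟩
  · have := h.conj _ (h.conj x hx)
    rw [h.inv_eq, mul_inv_rev]
    simpa [mul_assoc] using this
  · rw [← mul_inv_rev, ← mul_inv_rev, ← mul_assoc, h.cube, inv_one]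
  · have := hc.inv_left
    rwa [inv_inv] at this

theorem Fpf.prod_eq (h : Fpf P k) {x : G} (hx : x ∈ P) :
    x * (k * x * k⁻¹) * (k⁻¹ * x * k) = 1 := by
  let f : P → P := fun r => ⟨(r : G)⁻¹ * (k * r * k⁻¹), mul_mem (inv_mem r.2) (h.conj r r.2)⟩
  have hf : Function.Injective f := by
    intro a b e
    have e1 : (a : G)⁻¹ * (k * a * k⁻¹) = (b : G)⁻¹ * (k * b * k⁻¹) := congrArg Subtype.val e
    have e2 : Commute k ((b : G) * (a : G)⁻¹) := by
      show k * ((b : G) * (a : G)⁻¹) = (b : G) * (a : G)⁻¹ * k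
      calc k * ((b : G) * (a : G)⁻¹) = b * ((b : G)⁻¹ * (k * b * k⁻¹)) * (k * (a : G)⁻¹) := by group
        _ = b * ((a : G)⁻¹ * (k * a * k⁻¹)) * (k * (a : G)⁻¹) := by rw [e1]
        _ = _ := by group
    exact Subtype.ext (mul_inv_eq_one.1 (h.fixed _ (mul_mem b.2 (inv_mem a.2)) e2)).symm
  obtain ⟨r, hr⟩ := (Finite.injective_iff_surjective.1 hf) ⟨x, hx⟩
  have hr' : (r : G)⁻¹ * (k * r * k⁻¹) = x := congrArg Subtype.val hr
  rw [← hr']
  calc _ = (r : G)⁻¹ * (k * k) * r * (k * k * k)⁻¹ * (r : G)⁻¹ * k * r := by group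
    _ = (r : G)⁻¹ * (k * k) * (k * r) := by rw [h.cube]; group
    _ = (r : G)⁻¹ * (k * k * k) * r := by group
    _ = 1 := by rw [h.cube]; group

theorem Fpf.third_eq (h : Fpf P k) {x : G} (hx : x ∈ P) : k⁻¹ * x * k = (x * (k * x * k⁻¹))⁻¹ :=
  eq_inv_of_mul_eq_one_right (h.prod_eq hx)

theorem Fpf.comm (h : Fpf P k) {x : G} (hx : x ∈ P) : x * (k * x * k⁻¹) = k * x * k⁻¹ * x := by
  have h1 := h.third_eq hx
  have h2 := h.symm.third_eq hx
  rw [inv_inv, h1] at h2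
  calc x * (k * x * k⁻¹) = (x * (x * (k * x * k⁻¹))⁻¹)⁻¹ * x := by group
    _ = k * x * k⁻¹ * x := by rw [← h2]

theorem Fpf.comm_of_comm (h : Fpf P k) {x y : G} (hx : x ∈ P) (hy : y ∈ P) (hxy : x * y = y * x) :
    y * (k * x * k⁻¹) = k * x * k⁻¹ * y := by
  have h2 : k⁻¹ * (x * y) * k = (x * (k * x * k⁻¹) * (y * (k * y * k⁻¹)))⁻¹ := by
    rw [mul_inv_rev, ← h.third_eq hx, ← h.third_eq hy, hxy]
    group
  have h3 := h.third_eq (mul_mem hx hy)
  rw [h2, inv_inj] at h3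
  calc y * (k * x * k⁻¹) = x⁻¹ * (x * y * (k * (x * y) * k⁻¹)) * (k * y * k⁻¹)⁻¹ := by group
    _ = x⁻¹ * (x * (k * x * k⁻¹) * (y * (k * y * k⁻¹))) * (k * y * k⁻¹)⁻¹ := by rw [← h3]
    _ = _ := by group

/-- the only element fixed by `u` whose image under `k` is fixed by `u` is the identity -/
theorem Fpf.inter (h : Fpf P k) {u y : G} (hinv : u * k * u⁻¹ = k⁻¹) (hy : y ∈ P) (hy1 : Commute u y)
    (hy2 : Commute u (k * y * k⁻¹)) : y = 1 := by
  have h1 : u * (k * y * k⁻¹) * u⁻¹ = k⁻¹ * y * k := by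
    calc u * (k * y * k⁻¹) * u⁻¹ = (u * k * u⁻¹) * (u * y * u⁻¹) * (u * k * u⁻¹)⁻¹ := by group
      _ = _ := by rw [hinv, hy1.eq, mul_inv_cancel_right, inv_inv]
  rw [hy2.eq, mul_inv_cancel_right] at h1
  have h3 : y = k * y * k⁻¹ := by
    calc y = k⁻¹ * (k * y * k⁻¹) * k := by group
      _ = k⁻¹ * (k⁻¹ * y * k) * k := by rw [h1]
      _ = (k * k)⁻¹ * y * (k * k) := by group
      _ = _ := by rw [← h.inv_eq, inv_inv]
  exact h.fixed y hy (mul_inv_eq_iff_eq_mul.1 h3.symm)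

end Cfsg.Agent.CITSolv
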